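import Cfsg.Agent.SylowL.StepOne.B1Block

/-!
# Step 1, case (1B1), end
-/

set_option autoImplicit false

namespace Cfsg.Agent.SylowL.StepOne.B1End

open Matrix Subgroup
open Cfsg.Agent.SylowL.Lev Cfsg.Agent.SylowL.UT Cfsg.Agent.SylowL.Pat
open Cfsg.Agent.SylowL.EssDatum Cfsg.Agent.SylowL.EssUT Cfsg.Agent.SylowL.EssTwo
open Cfsg.Agent.SylowL.StepOne

variable {m : ℕ} {F : Type*} [Field F]

local notation "Mat" => Matrix (Fin m) (Fin m) F

theorem N_inv_Ab {j : Fin m} {g : UT m F} (hg : g ∈ Ab F j) : N g⁻¹ = - N g := by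
  have h3 := N_mul_Ab hg (inv_mem hg)
  rw [mul_inv_cancel, N_one] at h3
  exact (neg_eq_of_add_eq_zero_right h3.symm).symm

/-- commutators with elements of the block -/
theorem N_comm_Ab {j : Fin m} {g : UT m F} (hg : g ∈ Ab F j) (s : UT m F) :
    N (s * g * s⁻¹ * g⁻¹) = cj s (N g) - N g := by
  have h1 : s * g * s⁻¹ ∈ Ab F j := (normal_Ab j).conj_mem g hg s
  rw [N_mul_Ab h1 (inv_mem hg), N_inv_Ab hg, N_conj', sub_eq_add_neg]

section

variable {G : Type*} [Group G] [Finite G] {ι : UT m F →* G} [Finite F] [CharP F 2]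
variable {e : Submodule F (Matrix (Fin m) (Fin m) F)} {he : IsAlg e} (D : Datum ι (ofAlg e he))
variable {o z i j : Fin m}

omit [Finite G] in
/-- The block subgroup is invariant. -/
theorem inv_Ab (hB : CaseB e o z i j) (hij : (j : ℕ) + 1 = i) {n0 : Mat}
    (hn0 : n0 ∈ vee e) (hR : ∀ l, l ᵥ* n0 = 0 → ∀ a, a ≤ j → l a = 0)
    (hC : ∀ w, n0 *ᵥ w = 0 → ∀ b, j < b → w b = 0) :
    EssDatum.Inv ι (ofAlg e he) D.Y (Ab F j) := by
  refine Inv.of_forall fun g hg b hb => ?_
  obtain ⟨b', hb', eb⟩ := D.inv_E.exists_conj hg (Ab_le (he := he) hB hij hb)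
  refine ⟨b', ?_, eb⟩
  by_contra hcon
  let B : Subgroup (UT m F) := (((Ab F j).map ι).map (MulAut.conj g).toMonoidHom).comap ι
  have memB : ∀ s, s ∈ B ↔ ∃ a ∈ Ab F j, ι s = g * ι a * g⁻¹ := by
    intro s
    constructor
    · rintro ⟨_, ⟨a, ha, rfl⟩, h⟩
      exact ⟨a, ha, h.symm⟩
    · rintro ⟨a, ha, h⟩
      exact ⟨_, ⟨a, ha, rfl⟩, h.symm⟩
  have hbB : b' ∈ B := (memB _).2 ⟨b, hb, eb⟩
  have hBE : ∀ s ∈ B, s ∈ ofAlg e he := by
    intro s hs
    obtain ⟨a, ha, h⟩ := (memB s).1 hs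
    obtain ⟨s', hs', h'⟩ := D.inv_E.exists_conj hg (Ab_le (he := he) hB hij ha)
    rw [← h] at h'
    rw [← D.inj h']
    exact hs'
  have hcomm : ∀ s ∈ B, ∀ s' ∈ B, s * s' = s' * s := by
    intro s hs s' hs'
    obtain ⟨a, ha, h⟩ := (memB s).1 hs
    obtain ⟨a', ha', h'⟩ := (memB s').1 hs'
    apply D.inj
    rw [map_mul, map_mul, h, h']
    have h1 : g * ι a * g⁻¹ * (g * ι a' * g⁻¹) = g * ι (a * a') * g⁻¹ := by rw [map_mul]; group
    have h2 : g * ι a' * g⁻¹ * (g * ι a * g⁻¹) = g * ι (a' * a) * g⁻¹ := by rw [map_mul]; group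
    rw [h1, h2, comm_Ab ha ha']
  have hnorm : ∀ s ∈ B, ∀ v ∈ ofAlg e he, v * s * v⁻¹ ∈ B := by
    intro s hs v hv
    obtain ⟨a, ha, h⟩ := (memB s).1 hs
    obtain ⟨v', hv', h'⟩ := D.inv_E.exists_conj' hg hv
    refine (memB _).2 ⟨v' * a * v'⁻¹, (normal_Ab j).conj_mem a ha v', ?_⟩
    simp only [map_mul, map_inv, h, h']
    group
  have hcard : Nat.card B = Nat.card (Ab F j) := by
    have h1 : B.map ι = ((Ab F j).map ι).map (MulAut.conj g).toMonoidHom := by
      refine map_comap_eq_self ?_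
      rintro _ ⟨_, ⟨a, ha, rfl⟩, rfl⟩
      obtain ⟨s', -, h'⟩ := D.inv_E.exists_conj hg (Ab_le (he := he) hB hij ha)
      exact ⟨s', h'⟩
    have h2 : Nat.card (B.map ι) = Nat.card B :=
      Nat.card_congr (B.equivMapOfInjective ι D.inj).symm.toEquiv
    have h3 : Nat.card ((Ab F j).map ι) = Nat.card (Ab F j) :=
      Nat.card_congr ((Ab F j).equivMapOfInjective ι D.inj).symm.toEquiv
    have h4 : Nat.card (((Ab F j).map ι).map (MulAut.conj g).toMonoidHom) = Nat.card ((Ab F j).map ι) :=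
      Nat.card_congr (((Ab F j).map ι).equivMapOfInjective _ (MulAut.conj g).injective).symm.toEquiv
    rw [← h2, h1, h4, h3]
  refine false_of_subgroup hB hij he hn0 hR hC B (fun s hs => hBE s hs) hcomm ?_ hcard hbB hcon
  intro s hs s' hs' β hβ
  have hv : mk β ((isIdeal_blk j).le hβ) ∈ Ab F j := by rw [mem_Ab, N_mk]; exact hβ
  set v := mk β ((isIdeal_blk j).le hβ) with hvdef
  have hw : s * v * s⁻¹ * v⁻¹ ∈ B := by
    have e1 : s * v * s⁻¹ * v⁻¹ = s * (v * s⁻¹ * v⁻¹) := by group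
    rw [e1]
    exact mul_mem hs (hnorm _ (inv_mem hs) v (Ab_le (he := he) hB hij hv))
  have h1 := hcomm s' hs' _ hw
  have h2 : s' * (s * v * s⁻¹ * v⁻¹) * s'⁻¹ = s * v * s⁻¹ * v⁻¹ := by
    rw [h1]; group
  have h3 := congrArg N h2
  rw [N_conj', N_comm_Ab hv, hvdef, N_mk] at h3
  exact h3

/-! ### The operators `φ_s` -/

/-- `[1 + s x, 1 + β] = 1 + φ_s(β)` -/
def phi (x : Mat) (s : F) (β : Mat) : Mat := s • (x * β + β * x) + (s * s) • (x * β * x)

omit [Finite F] in
theorem cj_mk {x : Mat} (hx : x ∈ lev m F 1) (hxx : x * x = 0) {β : Mat} :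
    cj (mk x hx) β - β = x * β + β * x + x * β * x := by
  have h1 : (((mk x hx : UT m F) : Matˣ) : Mat) = 1 + x := by rw [val_eq, N_mk]
  have h2 : ((((mk x hx : UT m F) : Matˣ)⁻¹ : Matˣ) : Mat) = 1 + x := by
    refine Units.inv_eq_of_mul_eq_one_right ?_
    rw [h1, mul_add, add_mul, add_mul, hxx, one_mul, mul_one, one_mul, add_zero, add_assoc, mat_add_self,
      add_zero]
  rw [cj_apply, h1, h2]
  have h3 : (1 + x) * β * (1 + x) - β = x * β + β * x + x * β * x := by noncomm_ring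
  exact h3

omit [Finite F] in
theorem cj_mk_smul {x : Mat} (hx : x ∈ lev m F 1) (hxx : x * x = 0) (s : F) {β : Mat} :
    cj (mk (s • x) (Submodule.smul_mem _ s hx)) β - β = phi x s β := by
  rw [cj_mk _ (by rw [Matrix.smul_mul, Matrix.mul_smul, hxx, smul_zero, smul_zero]), phi]
  simp only [Matrix.smul_mul, Matrix.mul_smul, smul_smul, smul_add]

omit [Finite F] [CharP F 2] in
theorem phi_mem {j : Fin m} {x : Mat} (hx : x ∈ lev m F 1) {s : F} {β : Mat} (hβ : β ∈ pat F (blk j)) :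
    phi x s β ∈ pat F (blk j) := by
  have h1 := (isIdeal_blk (F := F) j).left x hx β hβ
  have h2 := (isIdeal_blk (F := F) j).right x hx β hβ
  have h3 := (isIdeal_blk (F := F) j).right x hx _ h1
  exact add_mem (Submodule.smul_mem _ _ (add_mem h1 h2)) (Submodule.smul_mem _ _ h3)

/-! ### The relation -/

omit [Finite G] [Finite F] in
theorem triv_block (hB : CaseB e o z i j) (hinv : EssDatum.Inv ι (ofAlg e he) D.Y (Ab F j))
    (hle : Ab F j ≤ ofAlg e he) (A : StepTwo.Act e he D.CY ⊥ (vee e)) :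
    Triv ι D.Y (ofAlg e he) (Ab F j) := by
  have hx := hB.inv_oj A (c := (1 : F)) one_ne_zero
  refine D.triv_of_isInv le_rfl D.inv_E hinv (isInv_mk he hx) (fun b hb => ?_) hle
  change N _ ∈ pat F (blk j)
  rw [(isIdeal_blk j).commutator_mem_iff, N_mk]
  have h1 : N b * single o j (1 : F) = 0 := by
    ext a d
    rw [StepTwo.mul_single_entry, Matrix.zero_apply,
      Lev.apply_eq_zero (N_mem b) (by have := hB.ho; omega), zero_mul, ite_self]
  rw [h1, sub_zero]
  intro a d had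
  rw [StepTwo.single_mul_entry] at had
  by_cases ha : a = o
  · rw [if_pos ha, one_mul] at had
    have h2 := N_mem b j d had
    refine ⟨?_, by rw [Fin.lt_def]; omega⟩
    rw [ha]
    exact hB.oj.le
  · rw [if_neg ha] at had
    exact absurd rfl had

end

section Rel

variable [CharP F 2] {o z i j : Fin m}

/-- The element `x`. -/
def xx (o z i j : Fin m) (c : F) : Matrix (Fin m) (Fin m) F := single o j (1 : F) + c • single i z (1 : F)

variable {e : Submodule F (Matrix (Fin m) (Fin m) F)} {c : F}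

omit [CharP F 2] in
theorem xx_lev (hB : CaseB e o z i j) : xx o z i j c ∈ lev m F 1 :=
  add_mem (single_mem_lev (by have := hB.oj; rw [Fin.lt_def] at this; omega) _)
    (Submodule.smul_mem _ _ (single_mem_lev (by have := hB.iz; rw [Fin.lt_def] at this; omega) _))

omit [CharP F 2] in
theorem xx_sq (hB : CaseB e o z i j) (hij : (j : ℕ) + 1 = i) : xx o z i j c * xx o z i j c = 0 := by
  have h1 : j ≠ i := by intro h; rw [h] at hij; omega
  have h2 : z ≠ o := by
    rintro rfl
    exact lt_irrefl _ (hB.oj.trans hB.jz)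
  rw [xx, add_mul, mul_add, mul_add, Matrix.mul_smul, Matrix.mul_smul, Matrix.smul_mul, Matrix.smul_mul,
    Matrix.single_mul_single_of_ne (h := hB.oj.ne'), Matrix.single_mul_single_of_ne (h := h1),
    Matrix.single_mul_single_of_ne (h := h2), Matrix.single_mul_single_of_ne (h := hB.iz.ne')]
  simp

omit [CharP F 2] in
theorem xx_mul (hB : CaseB e o z i j) {β : Mat} (hβ : β ∈ pat F (blk j)) :
    xx o z i j c * β = single o j (1 : F) * β := by
  have h1 : single i z (1 : F) * β = 0 := by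
    ext a d
    rw [StepTwo.single_mul_entry, Matrix.zero_apply,
      Pat.apply_eq_zero hβ (fun h => absurd h.1 (not_le_of_gt hB.jz)), mul_zero, ite_self]
  rw [xx, add_mul, Matrix.smul_mul, h1, smul_zero, add_zero]

omit [CharP F 2] in
theorem mul_xx (hB : CaseB e o z i j) {β : Mat} (hβ : β ∈ pat F (blk j)) :
    β * xx o z i j c = c • (β * single i z (1 : F)) := by
  have h1 : β * single o j (1 : F) = 0 := by
    ext a d
    rw [StepTwo.mul_single_entry, Matrix.zero_apply,
      Pat.apply_eq_zero hβ (fun h => absurd h.2 (not_lt_of_ge hB.oj.le)), zero_mul, ite_self]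
  rw [xx, mul_add, Matrix.mul_smul, h1, zero_add]

omit [CharP F 2] in
theorem xx_mul_xx (hB : CaseB e o z i j) {β : Mat} (hβ : β ∈ pat F (blk j)) :
    xx o z i j c * β * xx o z i j c = (c * β j i) • single o z (1 : F) := by
  rw [mul_assoc, mul_xx hB hβ, Matrix.mul_smul, ← mul_assoc, xx_mul hB hβ, Matrix.single_mul_mul_single,
    Matrix.smul_single, Matrix.smul_single]
  simp

omit [CharP F 2] in
theorem phi_eq (hB : CaseB e o z i j) (s : F) {β : Mat} (hβ : β ∈ pat F (blk j)) :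
    phi (xx o z i j c) s β = s • (single o j (1 : F) * β + c • (β * single i z (1 : F)))
      + (s * s * (c * β j i)) • single o z (1 : F) := by
  rw [phi, xx_mul_xx hB hβ, xx_mul hB hβ, mul_xx hB hβ, smul_smul]

omit [CharP F 2] in
theorem phi_oi (hB : CaseB e o z i j) (s : F) {β : Mat} (hβ : β ∈ pat F (blk j)) :
    phi (xx o z i j c) s β o i = s * β j i := by
  rw [phi_eq hB s hβ]
  have hiz : i ≠ z := hB.iz.ne
  rw [Matrix.add_apply, Matrix.smul_apply, Matrix.smul_apply, Matrix.add_apply, Matrix.smul_apply,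
    StepTwo.single_mul_entry, StepTwo.mul_single_entry, if_pos rfl, if_neg hiz, Matrix.single_apply,
    if_neg (fun h => hiz h.2.symm)]
  simp

/-- The relation between the operators `φ_s`. -/
theorem rel (hB : CaseB e o z i j) {s : F} {β β' : Mat} (hβ : β ∈ pat F (blk j)) (hβ' : β' ∈ pat F (blk j))
    (h : phi (xx o z i j c) 1 β' = phi (xx o z i j c) s β) :
    phi (xx o z i j c) s β' + phi (xx o z i j c) (s * s) β
      = ((s * s * s * s + s * s) * (c * β j i)) • single o z (1 : F) := by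
  have h1 : β' j i = s * β j i := by
    have := congrFun (congrFun h o) i
    rwa [phi_oi hB _ hβ', phi_oi hB _ hβ, one_mul] at this
  rw [phi_eq hB _ hβ', phi_eq hB _ hβ] at h
  rw [phi_eq hB _ hβ', phi_eq hB _ hβ]
  set P := single o j (1 : F) * β + c • (β * single i z (1 : F))
  set P' := single o j (1 : F) * β' + c • (β' * single i z (1 : F))
  set Z := single o z (1 : F)
  rw [one_smul, one_mul, one_mul] at h
  have h2 : P' = s • P + (s * s * (c * β j i)) • Z - (c * β' j i) • Z := by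
    rw [← h]; abel
  rw [h2, h1]
  ext a d
  simp only [Matrix.add_apply, Matrix.smul_apply, Matrix.sub_apply, smul_eq_mul]
  have h3 : (2 : F) = 0 := CharTwo.two_eq_zero
  linear_combination (s * s * P a d + s * s * s * (c * β j i) * Z a d - s * s * c * β j i * Z a d) * h3

omit [CharP F 2] in
theorem phi_add (x : Mat) (s : F) (β β' : Mat) : phi x s (β + β') = phi x s β + phi x s β' := by
  rw [phi, phi, phi]
  simp only [mul_add, add_mul, smul_add]
  abel

/-- Every element of the corner is obtained. -/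
theorem exists_rel (hB : CaseB e o z i j) (hij : (j : ℕ) + 1 = i) (hc : c ≠ 0) {s : F} (hs : s ≠ 0)
    (hs1 : s ≠ 1) (u : F) : ∃ β ∈ pat F (blk j), ∃ β' ∈ pat F (blk j),
      phi (xx o z i j c) 1 β' = phi (xx o z i j c) s β ∧
      (s * s * s * s + s * s) * (c * β j i) = u := by
  have hji : j < i := by rw [Fin.lt_def]; omega
  have h0 : s * s * s * s + s * s ≠ 0 := by
    have h1 : s * s * s * s + s * s = (s * (s + 1)) * (s * (s + 1)) := by
      have h3 : (2 : F) = 0 := CharTwo.two_eq_zero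
      linear_combination (- s * s * s) * h3
    rw [h1]
    have h2 : s + 1 ≠ 0 := by
      intro h
      apply hs1
      rwa [CharTwo.add_eq_zero] at h
    exact mul_ne_zero (mul_ne_zero hs h2) (mul_ne_zero hs h2)
  set κ : F := u / ((s * s * s * s + s * s) * c) with hκ
  have hβ : single j i κ ∈ pat F (blk j) := single_mem_pat ⟨le_rfl, hji⟩ κ
  have hγ : single o i ((s * s + s) * κ) ∈ pat F (blk j) := single_mem_pat ⟨hB.oj.le, hji⟩ _
  refine ⟨single j i κ, hβ, s • single j i κ + single o i ((s * s + s) * κ),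
    add_mem (Submodule.smul_mem _ _ hβ) hγ, ?_, ?_⟩
  · rw [phi_add, phi_eq hB _ (Submodule.smul_mem _ _ hβ), phi_eq hB _ hγ, phi_eq hB _ hβ]
    have hoj : o ≠ j := hB.oj.ne
    have e1 : ∀ t : F, single o j (1 : F) * single j i t = t • single o i (1 : F) := fun t => by
      rw [Matrix.single_mul_single_same, one_mul, Matrix.smul_single, smul_eq_mul, mul_one]
    have e2 : ∀ t : F, single j i t * single i z (1 : F) = t • single j z (1 : F) := fun t => by
      rw [Matrix.single_mul_single_same, mul_one, Matrix.smul_single, smul_eq_mul, mul_one]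
    have e3 : ∀ t : F, single o j (1 : F) * single o i t = 0 := fun t =>
      Matrix.single_mul_single_of_ne (h := hoj.symm) ..
    have e4 : ∀ t : F, single o i t * single i z (1 : F) = t • single o z (1 : F) := fun t => by
      rw [Matrix.single_mul_single_same, mul_one, Matrix.smul_single, smul_eq_mul, mul_one]
    have e5 : ∀ t : F, (single o i t : Mat) j i = 0 := fun t => Matrix.single_apply_of_row_ne hoj ..
    have e6 : ∀ t : F, (single j i t : Mat) j i = t := fun t => Matrix.single_apply_same ..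
    rw [Matrix.smul_single, smul_eq_mul, e1, e1, e2, e2, e3, e4, e5, e6, e6]
    have h3 : (2 : F) = 0 := CharTwo.two_eq_zero
    ext a d
    simp only [Matrix.add_apply, Matrix.smul_apply, smul_eq_mul, Matrix.zero_apply]
    linear_combination (s * c * κ * (single o z (1 : F) : Mat) a d) * h3
  · rw [Matrix.single_apply_same, hκ]
    have h4 : (s * s * s * s + s * s) * (c * (u / ((s * s * s * s + s * s) * c)))
        = (((s * s * s * s + s * s) * c) / ((s * s * s * s + s * s) * c)) * u := by ring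
    rw [h4, div_self (mul_ne_zero h0 hc), one_mul]

end Rel

/-! ### The corner is invariant -/

/-- The corner position. -/
def crn (o z : Fin m) : Fin m → Fin m → Prop := fun a b => a = o ∧ b = z

theorem isIdeal_crn {o z : Fin m} (ho : (o : ℕ) = 0) (hz : (z : ℕ) + 1 = m) (hoz : o < z) :
    IsIdeal (pat F (crn o z)) :=
  isIdeal_pat (fun _ _ h => by rw [h.1, h.2]; exact hoz)
    (fun a b _ h1 h2 => by
      rw [h2.1, Fin.lt_def, ho] at h1
      exact absurd h1 (Nat.not_lt_zero _))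
    (fun _ _ c h1 h2 => by
      rw [h1.2, Fin.lt_def] at h2
      have := c.2
      omega)

theorem smul_single_mem (o z : Fin m) (u : F) : u • single o z (1 : F) ∈ pat F (crn o z) :=
  Submodule.smul_mem _ _ (single_mem_pat ⟨rfl, rfl⟩ 1)

theorem eq_of_mem_crn {o z : Fin m} {n : Mat} (h : n ∈ pat F (crn o z)) : n = n o z • single o z (1 : F) := by
  ext a b
  rw [Matrix.smul_apply, Matrix.single_apply]
  by_cases h1 : o = a ∧ z = b
  · rw [if_pos h1, ← h1.1, ← h1.2, smul_eq_mul, mul_one]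
  · rw [if_neg h1, smul_zero]
    exact Pat.apply_eq_zero h fun h2 => h1 ⟨h2.1.symm, h2.2.symm⟩

section

variable {G : Type*} [Group G] [Finite G] {ι : UT m F →* G} [Finite F] [CharP F 2]
variable {e : Submodule F (Matrix (Fin m) (Fin m) F)} {he : IsAlg e} (D : Datum ι (ofAlg e he))
variable {o z i j : Fin m} {c : F}

omit [Finite G] [Finite F] [CharP F 2] in
theorem transport {E : Subgroup (UT m F)} (D : Datum ι E) {j : Fin m}
    (hT : Triv ι D.Y E (Ab F j)) {y : G} (hy : y ∈ D.Y) {v v1 g : UT m F} (hv1 : v1 ∈ Ab F j)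
    (h : ι v1 = y * ι v * y⁻¹) (hg : g ∈ E) :
    ι (g * v1 * g⁻¹ * v1⁻¹) = y * ι (g * v * g⁻¹ * v⁻¹) * y⁻¹ := by
  obtain ⟨a, ha, e1⟩ := hT y hy g hg
  have h1 : y * ι g * y⁻¹ = ι (a * g) := by
    rw [map_mul, e1]; group
  have h2 : y * ι (g * v * g⁻¹ * v⁻¹) * y⁻¹
      = (y * ι g * y⁻¹) * (y * ι v * y⁻¹) * (y * ι g * y⁻¹)⁻¹ * (y * ι v * y⁻¹)⁻¹ := by
    simp only [map_mul, map_inv]; group
  rw [h2, h1, ← h, ← map_inv, ← map_inv, ← map_mul, ← map_mul, ← map_mul]
  congr 1
  have h3 : g * v1 * g⁻¹ ∈ Ab F j := (normal_Ab j).conj_mem v1 hv1 g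
  have h4 := comm_Ab ha h3
  calc g * v1 * g⁻¹ * v1⁻¹ = (g * v1 * g⁻¹) * a * a⁻¹ * v1⁻¹ := by group
    _ = a * (g * v1 * g⁻¹) * a⁻¹ * v1⁻¹ := by rw [h4]
    _ = a * g * v1 * (a * g)⁻¹ * v1⁻¹ := by group

/-- `1 + s x` -/
def gs (hB : CaseB e o z i j) (c s : F) : UT m F := mk (s • xx o z i j c) (Submodule.smul_mem _ s (xx_lev hB))

omit [Finite F] in
theorem N_Phi (hB : CaseB e o z i j) (hij : (j : ℕ) + 1 = i) (c s : F) {v : UT m F} (hv : v ∈ Ab F j) :
    N (gs hB c s * v * (gs hB c s)⁻¹ * v⁻¹) = phi (xx o z i j c) s (N v) := by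
  rw [N_comm_Ab hv, gs, cj_mk_smul (xx_lev hB) (xx_sq hB hij)]

omit [Finite F] in
theorem Phi_mem (hB : CaseB e o z i j) (hij : (j : ℕ) + 1 = i) (c s : F) {v : UT m F} (hv : v ∈ Ab F j) :
    gs hB c s * v * (gs hB c s)⁻¹ * v⁻¹ ∈ Ab F j := by
  rw [mem_Ab, N_Phi hB hij c s hv]
  exact phi_mem (xx_lev hB) hv

omit [Finite G] [Finite F] in
theorem inv_corner (hB : CaseB e o z i j) (hij : (j : ℕ) + 1 = i) (hq : 4 ≤ Nat.card F)
    (hc : c ≠ 0) (hx : xx o z i j c ∈ e) (hinv : EssDatum.Inv ι (ofAlg e he) D.Y (Ab F j))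
    (hT : Triv ι D.Y (ofAlg e he) (Ab F j)) :
    EssDatum.Inv ι (ofAlg e he) D.Y
      (ofAlg (pat F (crn o z)) (isIdeal_crn hB.ho hB.hz (hB.oj.trans hB.jz)).isAlg) := by
  obtain ⟨s, hs, hs1⟩ : ∃ s : F, s ≠ 0 ∧ s ≠ 1 := by
    by_contra hcon
    push Not at hcon
    have h1 : Function.Surjective (fun b : Bool => if b then (1 : F) else 0) := by
      intro s
      by_cases h : s = 0
      · exact ⟨false, by simp [h]⟩
      · exact ⟨true, by simp [hcon s h]⟩
    have h2 := Nat.card_le_card_of_surjective _ h1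
    rw [Nat.card_eq_fintype_card (α := Bool), Fintype.card_bool] at h2
    omega
  have hgE : ∀ t : F, gs hB c t ∈ ofAlg e he := by
    intro t
    rw [mem_ofAlg, gs, N_mk]
    exact e.smul_mem t hx
  have key : ∀ y ∈ D.Y, ∀ b ∈ ofAlg (pat F (crn o z)) (isIdeal_crn hB.ho hB.hz (hB.oj.trans hB.jz)).isAlg,
      y * ι b * y⁻¹ ∈ (ofAlg (pat F (crn o z)) (isIdeal_crn hB.ho hB.hz (hB.oj.trans hB.jz)).isAlg).map ι := by
    intro y hy b hb
    rw [mem_ofAlg] at hb
    obtain ⟨β, hβ, β', hβ', h1, h2⟩ := exists_rel (e := e) hB hij hc hs hs1 (N b o z)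
    have hv : mk β ((isIdeal_blk j).le hβ) ∈ Ab F j := by rw [mem_Ab, N_mk]; exact hβ
    have hv' : mk β' ((isIdeal_blk j).le hβ') ∈ Ab F j := by rw [mem_Ab, N_mk]; exact hβ'
    set v := mk β ((isIdeal_blk j).le hβ) with hvdef
    set v' := mk β' ((isIdeal_blk j).le hβ') with hvdef'
    have hN : N v = β := N_mk _ _
    have hN' : N v' = β' := N_mk _ _
    obtain ⟨v1, hv1, e1⟩ := hinv.exists_conj (mem_sup_left hy) hv
    obtain ⟨v1', hv1', e1'⟩ := hinv.exists_conj (mem_sup_left hy) hv'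
    have t1 := fun t => transport D hT hy hv1 e1 (hgE t)
    have t1' := fun t => transport D hT hy hv1' e1' (hgE t)
    -- the relation for `v, v'`
    have r0 : gs hB c 1 * v' * (gs hB c 1)⁻¹ * v'⁻¹ = gs hB c s * v * (gs hB c s)⁻¹ * v⁻¹ := by
      apply N_injective
      rw [N_Phi hB hij c _ hv', N_Phi hB hij c _ hv, hN, hN']
      exact h1
    have r1 : gs hB c 1 * v1' * (gs hB c 1)⁻¹ * v1'⁻¹ = gs hB c s * v1 * (gs hB c s)⁻¹ * v1⁻¹ := by
      apply D.inj
      rw [t1', t1, r0]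
    have r2 : phi (xx o z i j c) 1 (N v1') = phi (xx o z i j c) s (N v1) := by
      rw [← N_Phi hB hij c _ hv1', ← N_Phi hB hij c _ hv1, r1]
    -- `b`
    have hb1 : b = (gs hB c s * v' * (gs hB c s)⁻¹ * v'⁻¹)
        * (gs hB c (s * s) * v * (gs hB c (s * s))⁻¹ * v⁻¹) := by
      apply N_injective
      rw [N_mul_Ab (Phi_mem hB hij c _ hv') (Phi_mem hB hij c _ hv), N_Phi hB hij c _ hv',
        N_Phi hB hij c _ hv, hN, hN', rel hB hβ hβ' h1, h2]
      exact eq_of_mem_crn hb
    have hb2 : y * ι b * y⁻¹ = ι ((gs hB c s * v1' * (gs hB c s)⁻¹ * v1'⁻¹)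
        * (gs hB c (s * s) * v1 * (gs hB c (s * s))⁻¹ * v1⁻¹)) := by
      rw [map_mul, t1', t1, hb1, map_mul]
      group
    rw [hb2]
    refine mem_map_of_mem ι ?_
    rw [mem_ofAlg, N_mul_Ab (Phi_mem hB hij c _ hv1') (Phi_mem hB hij c _ hv1), N_Phi hB hij c _ hv1',
      N_Phi hB hij c _ hv1, rel hB hv1 hv1' r2]
    exact smul_single_mem _ _ _
  refine sup_le ?_ ?_
  · intro y hy
    refine mem_normalizer_of ?_ ?_
    · rintro _ ⟨b, hb, rfl⟩
      exact key y hy b hb
    · rintro _ ⟨b, hb, rfl⟩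
      have := key y⁻¹ (inv_mem hy) b hb
      rwa [inv_inv] at this
  · rintro _ ⟨t, -, rfl⟩
    have hn := (isIdeal_crn (F := F) hB.ho hB.hz (hB.oj.trans hB.jz)).normal
    refine mem_normalizer_of ?_ ?_
    · rintro _ ⟨b, hb, rfl⟩
      exact ⟨t * b * t⁻¹, hn.conj_mem b hb t, by simp⟩
    · rintro _ ⟨b, hb, rfl⟩
      refine ⟨t⁻¹ * b * t, ?_, by simp⟩
      have := hn.conj_mem b hb t⁻¹
      rwa [inv_inv] at this

/-- End of case (1B1). -/
theorem blockEnd (hq : 4 ≤ Nat.card F)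
    (hn : ¬ Triv ι D.Y (Datum.OmZ (ofAlg e he) ⊥ inferInstance) ⊥) (hB : CaseB e o z i j)
    (hij : (j : ℕ) + 1 = i) (hc : c ≠ 0) (hx : single o j (1 : F) + c • single i z (1 : F) ∈ e)
    {n0 : Mat} (hn0 : n0 ∈ vee e) (hR : ∀ l, l ᵥ* n0 = 0 → ∀ a, a ≤ j → l a = 0)
    (hC : ∀ w, n0 *ᵥ w = 0 → ∀ b, j < b → w b = 0)
    (hV : ∀ n ∈ vee e, n j = (n j z) • (Pi.single z (1 : F) : Fin m → F)) : False := by
  have hinv := inv_Ab D hB hij hn0 hR hC
  have A := act_bot D hn
  have hT := triv_block D hB hinv (Ab_le hB hij) A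
  have hcr := inv_corner D hB hij hq hc hx hinv hT
  have hoz : o < z := hB.oj.trans hB.jz
  have hI := isIdeal_crn (F := F) hB.ho hB.hz hoz
  have hox := hB.inv_oj A (c := (1 : F)) one_ne_zero
  have hrow : ∀ n ∈ lev m F 1, n * single o j (1 : F) = 0 := by
    intro n hn
    ext a d
    rw [StepTwo.mul_single_entry, Matrix.zero_apply,
      Lev.apply_eq_zero hn (by have := hB.ho; omega), zero_mul, ite_self]
  -- the corner is in `V`
  have hle : ofAlg (pat F (crn o z)) hI.isAlg ≤ Datum.OmZ (ofAlg e he) ⊥ inferInstance := by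
    intro g hg
    rw [mem_OmZ_bot, mem_vee]
    rw [mem_ofAlg] at hg
    rw [eq_of_mem_crn hg]
    refine ⟨Submodule.smul_mem _ _ (hB.row z hB.jz), ?_, fun x hx => ?_⟩
    · rw [Matrix.smul_mul, Matrix.mul_smul, Matrix.single_mul_single_of_ne (h := hoz.ne'), smul_zero, smul_zero]
    · have h1 : single o z (1 : F) * x = 0 := by
        ext a d
        rw [StepTwo.single_mul_entry, Matrix.zero_apply,
          Lev.apply_eq_zero (he.le hx) (by have := hB.hz; have := d.2; omega), mul_zero, ite_self]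
      have h2 : x * single o z (1 : F) = 0 := by
        ext a d
        rw [StepTwo.mul_single_entry, Matrix.zero_apply,
          Lev.apply_eq_zero (he.le hx) (by have := hB.ho; omega), zero_mul, ite_self]
      rw [Matrix.smul_mul, Matrix.mul_smul, h1, h2]
  apply hn
  refine D.triv_of_two_steps isPGroup_UT (Datum.OmZ_le _ _) hle bot_le
    (D.inv_OmZ inferInstance Inv.bot) hcr Inv.bot (isInv_mk he hox) ?_ ?_
  · intro v hv
    rw [mem_OmZ_bot] at hv
    rw [mem_ofAlg, hI.commutator_mem_iff, N_mk, hrow _ (N_mem v), sub_zero]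
    have h1 : single o j (1 : F) * N v = (N v j z) • single o z (1 : F) := by
      ext a d
      rw [StepTwo.single_mul_entry, Matrix.smul_apply, Matrix.single_apply]
      by_cases ha : a = o
      · have h9 : N v j d = N v j z * (if d = z then 1 else 0) := by
          have := congrFun (hV _ hv) d
          rwa [Pi.smul_apply, Pi.single_apply, smul_eq_mul] at this
        rw [if_pos ha, one_mul]
        by_cases hd : d = z
        · rw [if_pos ⟨ha.symm, hd.symm⟩, smul_eq_mul, mul_one, hd]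
        · rw [h9, if_neg hd, if_neg fun h => hd h.2.symm, mul_zero, smul_zero]
      · rw [if_neg ha, if_neg fun h => ha h.1.symm, smul_zero]
    rw [h1]
    exact smul_single_mem _ _ _
  · intro v hv
    rw [mem_ofAlg] at hv
    rw [mem_bot]
    have h1 : mk (single o j (1 : F)) hox.lev * v = v * mk (single o j (1 : F)) hox.lev := by
      rw [UT.commute_iff, N_mk, hrow _ (N_mem v), eq_of_mem_crn hv, Matrix.mul_smul,
        Matrix.single_mul_single_of_ne (h := hB.oj.ne'), smul_zero]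
    rw [h1]; group

end

end Cfsg.Agent.SylowL.StepOne.B1End
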