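import Cfsg.Agent.SylowL.StepOne.B1Comm
import Cfsg.Agent.SylowL.StepOne.B1End

/-!
# Step 1, case (1B1)
-/

set_option autoImplicit false

namespace Cfsg.Agent.SylowL.StepOne.B1Main

open Matrix Subgroup
open scoped commutatorElement
open Cfsg.Agent.SylowL.Lev Cfsg.Agent.SylowL.UT Cfsg.Agent.SylowL.Pat
open Cfsg.Agent.SylowL.EssDatum Cfsg.Agent.SylowL.EssUT Cfsg.Agent.SylowL.EssTwo
open Cfsg.Agent.SylowL.StepOne
open Cfsg.Agent.SylowL.StepOne.B1Vec Cfsg.Agent.SylowL.StepOne.B1Core Cfsg.Agent.SylowL.StepOne.B1Comm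

variable {m : ℕ} {F : Type*} [Field F]

local notation "Mat" => Matrix (Fin m) (Fin m) F

/-- `N` of a commutator. -/
theorem N_comm (t g : UT m F) :
    N (t * g * t⁻¹ * g⁻¹) = (N t * N g - N g * N t) + (N t * N g - N g * N t) * N (g * t)⁻¹ := by
  have e1 : t * g * t⁻¹ * g⁻¹ = t * g * (g * t)⁻¹ := by group
  have h1 : N (g * t) + N (g * t)⁻¹ + N (g * t) * N (g * t)⁻¹ = 0 := by
    rw [← N_mul, mul_inv_cancel, N_one]
  have h2 : N t * N g - N g * N t = N (t * g) - N (g * t) := by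
    rw [N_mul, N_mul]; abel
  rw [e1, N_mul, h2, sub_mul]
  have h3 : N (g * t)⁻¹ = - N (g * t) - N (g * t) * N (g * t)⁻¹ := by
    rw [← sub_eq_zero]
    rw [← h1]
    abel
  calc N (t * g) + N (g * t)⁻¹ + N (t * g) * N (g * t)⁻¹
      = N (t * g) + (- N (g * t) - N (g * t) * N (g * t)⁻¹) + N (t * g) * N (g * t)⁻¹ := by rw [← h3]
    _ = _ := by abel

section

variable {G : Type*} [Group G] [Finite G] {ι : UT m F →* G} [Finite F] [CharP F 2]
variable {e : Submodule F (Matrix (Fin m) (Fin m) F)} {he : IsAlg e}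
variable {o z i j : Fin m} {c : F}

/-- `1 + ε o ⊗ l + w ⊗ ε z` is in `E'`. -/
def Good (he : IsAlg e) (o z : Fin m) (l w : Fin m → F) : Prop :=
  ε o ⋄ l ∈ e ∧ w ⋄ ε z ∈ e ∧ ∃ g ∈ ⁅ofAlg e he, ofAlg e he⁆, N g = ε o ⋄ l + w ⋄ ε z

omit [Finite F] [CharP F 2] in
theorem vmv_mul_vmv' (w l w' l' : Fin m → F) : (w ⋄ l) * (w' ⋄ l') = (l ⬝ᵥ w') • (w ⋄ l') := by
  rw [mul_vecMulVec, vmv_mulVec, smul_vecMulVec]

omit [Finite F] in
/-- type (a) -/
theorem good_a (hB : CaseB e o z i j) {l : Fin m → F} (hl : ε o ⋄ l ∈ e) {y : Mat} (hy : y ∈ e) :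
    Good he o z (l ᵥ* y) 0 := by
  have h1 : ε o ⋄ (l ᵥ* y) ∈ e := by
    rw [← vecMulVec_mul]
    exact he.mul _ hl _ hy
  refine ⟨h1, by rw [zero_vecMulVec]; exact zero_mem _, mk _ (he.le h1), ?_, by rw [N_mk, zero_vecMulVec, add_zero]⟩
  set t : UT m F := mk _ (he.le hl) with ht
  set g : UT m F := mk y (he.le hy) with hg
  set s : UT m F := mk _ (he.le h1) with hs
  have hcol : y *ᵥ ε o = 0 := lev_col hB.ho (he.le hy)
  have hlo : l ⬝ᵥ ε o = 0 := by
    have h2 := lev_col hB.ho (he.le hl)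
    rw [vmv_mulVec] at h2
    have h3 := congrFun h2 o
    rwa [Pi.smul_apply, ε_same, smul_eq_mul, mul_one] at h3
  have key : t * g = g * (s * t) := by
    apply N_injective
    rw [N_mul, N_mul, N_mul, ht, hg, hs, N_mk, N_mk, N_mk, vmv_mul_vmv', vecMulVec_mul, mul_add, mul_add,
      mul_vecMulVec, mul_vecMulVec, hcol, zero_vecMulVec, zero_vecMulVec, ← dotProduct_mulVec, hcol,
      dotProduct_zero, zero_smul]
    simp only [add_zero, mul_zero]
    abel
  have h2 : s = ⁅g⁻¹, t⁆ := by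
    rw [commutatorElement_def, inv_inv]
    calc s = g⁻¹ * (g * (s * t)) * t⁻¹ := by group
      _ = g⁻¹ * (t * g) * t⁻¹ := by rw [key]
      _ = _ := by group
  rw [h2]
  refine commutator_mem_commutator (inv_mem ?_) ?_
  · rw [mem_ofAlg, hg, N_mk]; exact hy
  · rw [mem_ofAlg, ht, N_mk]; exact hl

omit [Finite F] in
/-- type (b) -/
theorem good_b (hB : CaseB e o z i j) {w : Fin m → F} (hw : w ⋄ ε z ∈ e) {y : Mat} (hy : y ∈ e) :
    Good he o z 0 (y *ᵥ w) := by
  have h1 : (y *ᵥ w) ⋄ ε z ∈ e := by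
    rw [← mul_vecMulVec]
    exact he.mul _ hy _ hw
  refine ⟨by rw [vecMulVec_zero]; exact zero_mem _, h1, mk _ (he.le h1), ?_, by rw [N_mk, vecMulVec_zero, zero_add]⟩
  set t : UT m F := mk _ (he.le hw) with ht
  set g : UT m F := mk y (he.le hy) with hg
  set s : UT m F := mk _ (he.le h1) with hs
  have hrow : ε z ᵥ* y = 0 := lev_row hB.hz (he.le hy)
  have hwz : ε z ⬝ᵥ w = 0 := by
    have h2 := lev_row hB.hz (he.le hw)
    rw [vecMul_vmv] at h2
    have h3 := congrFun h2 z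
    rwa [Pi.smul_apply, ε_same, smul_eq_mul, mul_one] at h3
  have key : g * t = s * (t * g) := by
    apply N_injective
    rw [N_mul, N_mul, N_mul, ht, hg, hs, N_mk, N_mk, N_mk]
    simp only [mul_add, vecMulVec_mul, mul_vecMulVec, vmv_mulVec, hrow, hwz, vecMulVec_zero, zero_smul,
      zero_vecMulVec, add_zero]
    abel
  have h2 : s = ⁅g, t⁆ := by
    rw [commutatorElement_def]
    calc s = (s * (t * g)) * g⁻¹ * t⁻¹ := by group
      _ = _ := by rw [← key]
  rw [h2]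
  refine commutator_mem_commutator ?_ ?_
  · rw [mem_ofAlg, hg, N_mk]; exact hy
  · rw [mem_ofAlg, ht, N_mk]; exact hw

omit [Finite F] in
/-- the corner -/
theorem corner (hB : CaseB e o z i j) (hx : single o j (1 : F) + c • single i z (1 : F) ∈ e) {n0 : Mat}
    (hn0 : n0 ∈ vee e) (h0 : n0 j z = 1) (hC : (n0 *ᵥ ε z) ⋄ ε z ∈ e) (a : F) :
    ∃ h ∈ ⁅ofAlg e he, ofAlg e he⁆, N h = a • (ε o ⋄ ε z) := by
  obtain ⟨-, -, g, hg, hN⟩ := good_b (he := he) hB hC (e.smul_mem a (hx' hx))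
  refine ⟨g, hg, ?_⟩
  rw [hN, vecMulVec_zero, zero_add, Matrix.smul_mulVec, add_mulVec, vmv_mulVec, Matrix.smul_mulVec, vmv_mulVec,
    ε_dot, ε_dot, mulVec_ε, mulVec_ε, h0, one_smul, Lev.apply_eq_zero (he.le (vee_le hn0)) (by omega), zero_smul,
    smul_zero, add_zero, smul_vecMulVec]

omit [Finite F] in
theorem Good.add (hB : CaseB e o z i j) (hcor : ∀ a : F, ∃ h ∈ ⁅ofAlg e he, ofAlg e he⁆, N h = a • (ε o ⋄ ε z : Mat))
    {l w l' w' : Fin m → F} (h : Good he o z l w) (h' : Good he o z l' w') : Good he o z (l + l') (w + w') := by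
  obtain ⟨h1, h2, g, hg, hN⟩ := h
  obtain ⟨h1', h2', g', hg', hN'⟩ := h'
  obtain ⟨k, hk, hNk⟩ := hcor (-(l ⬝ᵥ w'))
  refine ⟨by rw [vecMulVec_add]; exact add_mem h1 h1', by rw [add_vecMulVec]; exact add_mem h2 h2',
    g * g' * k, mul_mem (mul_mem hg hg') hk, ?_⟩
  have hlo : l ⬝ᵥ ε o = 0 := by
    have h3 := lev_col hB.ho (he.le h1)
    rw [vmv_mulVec] at h3
    have h4 := congrFun h3 o
    rwa [Pi.smul_apply, ε_same, smul_eq_mul, mul_one] at h4
  have hwz : ε z ⬝ᵥ w' = 0 := by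
    have h3 := lev_row hB.hz (he.le h2')
    rw [vecMul_vmv] at h3
    have h4 := congrFun h3 z
    rwa [Pi.smul_apply, ε_same, smul_eq_mul, mul_one] at h4
  have hzo : (ε z : Fin m → F) ⬝ᵥ ε o = 0 := by rw [dot_ε, ε_ne (hB.oj.trans hB.jz).ne]
  have e1 : N g * N g' = (l ⬝ᵥ w') • (ε o ⋄ ε z) := by
    rw [hN, hN', add_mul, mul_add, mul_add, vmv_mul_vmv', vmv_mul_vmv', vmv_mul_vmv', vmv_mul_vmv', hlo, hwz, hzo]
    simp only [zero_smul, zero_add, add_zero]
  have e2 : N (g * g') * N k = 0 := by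
    rw [hNk, Matrix.mul_smul, mul_vecMulVec, lev_col hB.ho (N_mem _), zero_vecMulVec, smul_zero]
  rw [N_mul, e2, N_mul, e1, hNk, hN, hN', vecMulVec_add, add_vecMulVec, neg_smul]
  abel

/-- The submodule `S'`. -/
def P (he : IsAlg e) (hB : CaseB e o z i j)
    (hcor : ∀ a : F, ∃ h ∈ ⁅ofAlg e he, ofAlg e he⁆, N h = a • (ε o ⋄ ε z : Mat)) :
    Submodule F ((Fin m → F) × (Fin m → F)) where
  carrier := {p | ∀ a : F, Good he o z (a • p.1) (a • p.2)}
  add_mem' := by
    intro p q hp hq a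
    have := Good.add hB hcor (hp a) (hq a)
    rw [← smul_add, ← smul_add] at this
    exact this
  zero_mem' := by
    intro a
    refine ⟨?_, ?_, 1, one_mem _, ?_⟩
    · simp
    · simp
    · simp
  smul_mem' := by
    intro b p hp a
    have := hp (a * b)
    rw [← smul_smul, ← smul_smul] at this
    exact this

omit [Finite F] in
theorem mem_P {hB : CaseB e o z i j}
    {hcor : ∀ a : F, ∃ h ∈ ⁅ofAlg e he, ofAlg e he⁆, N h = a • (ε o ⋄ ε z : Mat)}
    {p : (Fin m → F) × (Fin m → F)} : p ∈ P he hB hcor ↔ ∀ a : F, Good he o z (a • p.1) (a • p.2) := Iff.rfl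

/-- Case (1B1). -/
theorem caseB1 (D : Datum ι (ofAlg e he)) (hq : 4 ≤ Nat.card F)
    (hn : ¬ Triv ι D.Y (Datum.OmZ (ofAlg e he) ⊥ inferInstance) ⊥) (hB : CaseB e o z i j)
    (hc : c ≠ 0) (hx : single o j (1 : F) + c • single i z (1 : F) ∈ e) : False := by
  have A := act_bot D hn
  obtain ⟨n0, hn0, h0⟩ := exists_n0 A hB hx
  have hX := hx' hx
  have kR : ∀ {l : Fin m → F}, l ᵥ* n0 = 0 → ε o ⋄ l ∈ e := fun h => kerR A hB hx hn0 h0 h
  have kC : ∀ {w : Fin m → F}, n0 *ᵥ w = 0 → w ⋄ ε z ∈ e := fun h => kerC A hB hx hn0 h0 h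
  have hcor : ∀ a : F, ∃ h ∈ ⁅ofAlg e he, ofAlg e he⁆, N h = a • (ε o ⋄ ε z : Mat) :=
    corner hB hx hn0 h0 (kC (by rw [mulVec_mulVec, sq_vee hn0, zero_mulVec]))
  -- `ρ_j(y)` is in `R`
  have hrow : ∀ y ∈ e, ε o ⋄ (ε j ᵥ* y) ∈ e := by
    intro y hy
    have h1 := he.mul _ hX _ hy
    rwa [add_mul, vecMulVec_mul, Matrix.smul_mul, vecMulVec_mul, lev_row hB.hz (he.le hy), vecMulVec_zero,
      smul_zero, add_zero] at h1
  have hcolm : ∀ y ∈ e, (c • (y *ᵥ ε i)) ⋄ ε z ∈ e := by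
    intro y hy
    have h1 := he.mul _ hy _ hX
    rwa [mul_add, mul_vecMulVec, Matrix.mul_smul, mul_vecMulVec, lev_col hB.ho (he.le hy), zero_vecMulVec,
      zero_add, ← smul_vecMulVec] at h1
  -- elements of type (c)
  have hPc : ∀ y ∈ e, (ε j ᵥ* y, -(c • (y *ᵥ ε i))) ∈ P he hB hcor := by
    intro y hy a
    simp only
    set X : Mat := ε o ⋄ ε j + c • (ε i ⋄ ε z) with hXdef
    have haX : a • X ∈ e := e.smul_mem a hX
    set t : UT m F := mk (a • X) (he.le haX) with ht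
    set g : UT m F := mk y (he.le hy) with hg
    have htE : t ∈ ofAlg e he := by rw [mem_ofAlg, ht, N_mk]; exact haX
    have hgE : g ∈ ofAlg e he := by rw [mem_ofAlg, hg, N_mk]; exact hy
    set y' : Mat := N (g * t)⁻¹ with hy'
    have hy'e : y' ∈ e := inv_mem (mul_mem hgE htE)
    have hS : N t * N g - N g * N t = ε o ⋄ (a • (ε j ᵥ* y)) - (a • (c • (y *ᵥ ε i))) ⋄ ε z := by
      rw [ht, hg, N_mk, N_mk, Matrix.smul_mul, Matrix.mul_smul, hXdef, add_mul, mul_add, vecMulVec_mul,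
        mul_vecMulVec, Matrix.smul_mul, Matrix.mul_smul, vecMulVec_mul, mul_vecMulVec,
        lev_row hB.hz (he.le hy), lev_col hB.ho (he.le hy), vecMulVec_zero, zero_vecMulVec, smul_zero, zero_add,
        add_zero, vecMulVec_smul, smul_vecMulVec, smul_vecMulVec]
    have hN : N (t * g * t⁻¹ * g⁻¹)
        = ε o ⋄ (a • (ε j ᵥ* y) + (a • (ε j ᵥ* y)) ᵥ* y') + (-(a • (c • (y *ᵥ ε i)))) ⋄ ε z := by
      rw [N_comm, hS, ← hy', sub_mul, vecMulVec_mul, vecMulVec_mul, lev_row hB.hz (he.le hy'e), vecMulVec_zero,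
        sub_zero, vecMulVec_add, neg_vecMulVec]
      abel
    have h1 : ε o ⋄ (a • (ε j ᵥ* y)) ∈ e := by
      rw [vecMulVec_smul]
      exact e.smul_mem a (hrow y hy)
    have h2 : Good he o z (a • (ε j ᵥ* y) + (a • (ε j ᵥ* y)) ᵥ* y') (-(a • (c • (y *ᵥ ε i)))) := by
      refine ⟨?_, ?_, _, ?_, hN⟩
      · rw [vecMulVec_add, ← vecMulVec_mul]
        exact add_mem h1 (he.mul _ h1 _ hy'e)
      · rw [neg_vecMulVec, smul_vecMulVec]
        exact neg_mem (e.smul_mem a (hcolm y hy))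
      · have := commutator_mem_commutator htE hgE
        rwa [commutatorElement_def] at this
    have h3 : Good he o z (-((a • (ε j ᵥ* y)) ᵥ* y')) 0 := by
      have h4 := good_a (he := he) hB (l := -(a • (ε j ᵥ* y))) (by rw [vecMulVec_neg]; exact neg_mem h1) hy'e
      rwa [neg_vecMul] at h4
    have h4 := Good.add hB hcor h2 h3
    rw [add_neg_cancel_right, add_zero, ← smul_neg] at h4
    exact h4
  -- the element not in `P`
  obtain ⟨g0, hg0, hne⟩ := StepOne.exists_not_mem_commutator D (hB.inv_oj A (c := (1 : F)) one_ne_zero)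
  have hxinv := hB.inv_oj A (c := (1 : F)) one_ne_zero
  set y0 : Mat := - N g0⁻¹ with hy0
  have hy0e : y0 ∈ e := neg_mem (inv_mem hg0)
  have hnP : (ε j ᵥ* y0, (0 : Fin m → F)) ∉ P he hB hcor := by
    intro hP
    have h1 := hP 1
    rw [one_smul, smul_zero] at h1
    obtain ⟨-, -, g, hg, hN⟩ := h1
    apply hne
    have h2 : mk (single o j (1 : F)) hxinv.lev * g0 * (mk (single o j (1 : F)) hxinv.lev)⁻¹ * g0⁻¹ = g := by
      have key : mk (single o j (1 : F)) hxinv.lev * g0 = g * (g0 * mk (single o j (1 : F)) hxinv.lev) := by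
        apply N_injective
        have hcol : y0 *ᵥ ε o = 0 := lev_col hB.ho (he.le hy0e)
        have hgg : y0 + y0 * N g0 = N g0 := by
          have h5 : N g0⁻¹ + N g0 + N g0⁻¹ * N g0 = 0 := by rw [← N_mul, inv_mul_cancel, N_one]
          rw [hy0, neg_mul, ← sub_eq_zero, ← neg_eq_zero, ← h5]
          abel
        rw [zero_vecMulVec, add_zero] at hN
        rw [N_mul, N_mul, N_mul g0, hN, N_mk, single_one_eq, vecMulVec_mul, mul_vecMulVec,
          lev_col hB.ho (N_mem g0), zero_vecMulVec, add_zero, mul_add, mul_vecMulVec, vmv_mulVec,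
          ← dotProduct_mulVec, hcol, dotProduct_zero, zero_smul, zero_vecMulVec, add_zero, vecMulVec_mul,
          vecMul_vecMul]
        have h6 : ε o ⋄ (ε j ᵥ* N g0) = ε o ⋄ (ε j ᵥ* y0) + ε o ⋄ (ε j ᵥ* (y0 * N g0)) := by
          rw [← vecMulVec_add, ← vecMul_add, hgg]
        rw [h6]
        abel
      rw [key]; group
    rw [h2]; exact hg
  obtain ⟨w1, l1, hf, hf0⟩ := exists_pair hnP
  have hres := cases (i := i) (c := c) A hB hx hn0 h0 (w1 := w1) (l1 := l1) ?_ ?_ ?_ ?_ hy0e ?_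
  · obtain ⟨hij, hR, hC⟩ := hres
    refine B1End.blockEnd D hq hn hB hij hc hx hn0 hR hC fun n hn' => ?_
    have h1 := row_eq he hB hx hn'
    rw [ε_vecMul] at h1
    exact h1
  · intro l hl y hy
    have h1 : (l ᵥ* y, (0 : Fin m → F)) ∈ P he hB hcor := by
      intro a
      simp only
      rw [smul_zero, ← smul_vecMul]
      exact good_a hB (by rw [vecMulVec_smul]; exact e.smul_mem a (kR hl)) hy
    have h2 := hf _ h1
    simp only [dotProduct_zero, add_zero] at h2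
    rw [dotProduct_mulVec]
    exact h2
  · intro w hw y hy
    have h1 : ((0 : Fin m → F), y *ᵥ w) ∈ P he hB hcor := by
      intro a
      simp only
      rw [smul_zero, ← mulVec_smul]
      exact good_b hB (by rw [smul_vecMulVec]; exact e.smul_mem a (kC hw)) hy
    have h2 := hf _ h1
    simp only [zero_dotProduct, zero_add] at h2
    exact h2
  · intro y hy
    have h2 := hf _ (hPc y hy)
    simp only at h2
    rw [dotProduct_neg, ← sub_eq_add_neg, sub_eq_zero, ← dotProduct_mulVec, ε_dot, dotProduct_smul, smul_eq_mul] at h2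
    exact h2
  · have h1 : ((ε z : Fin m → F), (0 : Fin m → F)) ∈ P he hB hcor := by
      intro a
      simp only
      obtain ⟨h, hh, hN⟩ := hcor a
      refine ⟨?_, by simp, h, hh, by rw [hN, vecMulVec_smul]; simp⟩
      rw [vecMulVec_smul, ← single_one_eq]
      exact e.smul_mem a (hB.row z hB.jz)
    have h2 := hf _ h1
    simp only [dotProduct_zero, add_zero] at h2
    rwa [ε_dot] at h2
  · simp only [dotProduct_zero, add_zero] at hf0
    rw [← dotProduct_mulVec, ε_dot] at hf0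
    exact hf0

end

end Cfsg.Agent.SylowL.StepOne.B1Main
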