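import Cfsg.Agent.SylowL.StepOne.B2Main

/-!
# Step 1, case (1B2): conclusion
-/

set_option autoImplicit false

namespace Cfsg.Agent.SylowL.StepOne.B2Final

open Matrix Subgroup
open Cfsg.Agent.SylowL.Lev Cfsg.Agent.SylowL.UT Cfsg.Agent.SylowL.Pat
open Cfsg.Agent.SylowL.EssDatum Cfsg.Agent.SylowL.EssUT Cfsg.Agent.SylowL.EssTwo
open Cfsg.Agent.SylowL.StepOne Cfsg.Agent.SylowL.StepOne.B2Base Cfsg.Agent.SylowL.StepOne.B2Main

variable {m : ℕ} {F : Type*} [Field F]

local notation "Mat" => Matrix (Fin m) (Fin m) F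

/-! ### The action of `N(E)` on `v` -/

section Gamma

variable {G : Type*} [Group G] {ι : UT m F →* G} [CharP F 2]
  {e : Submodule F (Matrix (Fin m) (Fin m) F)} {he : IsAlg e} (D : Datum ι (ofAlg e he))
  {o z i j : Fin m}

/-- products in `v` vanish when `j < i` -/
theorem vee_mul_eq_zero (hB : CaseB e o z i j) (he : IsAlg e) (hji : j < i) {n n' : Mat} (hn : n ∈ vee e)
    (hn' : n' ∈ vee e) : n * n' = 0 := by
  ext a b
  rw [Matrix.mul_apply, Matrix.zero_apply]
  refine Finset.sum_eq_zero fun c _ => ?_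
  by_cases hc : c < i
  · rw [hB.vcol he hn hc, zero_mul]
  · rw [hB.vrow he hn' (hji.trans_le (not_lt.1 hc)), mul_zero]

theorem exists_gamma (hB : CaseB e o z i j) (hji : j < i) {g : G}
    (hg : g ∈ D.Y ⊔ (normalizer ((ofAlg e he : Subgroup (UT m F)) : Set (UT m F))).map ι) :
    ∃ γ : vee e →+ vee e, Function.Injective γ ∧ ∀ (t t' x : UT m F) (c : G), x ∈ ofAlg e he →
      c ∈ centralizer (((ofAlg e he).map ι : Subgroup G) : Set G) → g * ι t * g⁻¹ = ι t' * ι x * c →
      ∀ (n : vee e) (hn : cj t (n : Mat) ∈ vee e), (γ ⟨cj t (n : Mat), hn⟩ : Mat) = cj t' (γ n : Mat) := by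
  have hlev : ∀ n : vee e, (n : Mat) ∈ lev m F 1 := fun n => he.le (vee_le n.2)
  have hV : EssDatum.Inv ι (ofAlg e he) D.Y (Datum.OmZ (ofAlg e he) ⊥ inferInstance) :=
    D.inv_OmZ (K := ⊥) inferInstance Inv.bot
  have hex : ∀ n : vee e, ∃ b' ∈ Datum.OmZ (ofAlg e he) ⊥ inferInstance, ι b' = g * ι (mk (n : Mat) (hlev n)) * g⁻¹ :=
    fun n => hV.exists_conj hg ((mem_OmZ_bot he).2 (by rw [N_mk]; exact n.2))
  choose f hf hfe using hex
  have hfm : ∀ n, N (f n) ∈ vee e := fun n => (mem_OmZ_bot he).1 (hf n)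
  refine ⟨⟨⟨fun n => ⟨N (f n), hfm n⟩, ?_⟩, ?_⟩, ?_, ?_⟩
  · apply Subtype.ext
    have h1 : f 0 = 1 := by
      apply D.inj
      rw [hfe 0, map_one]
      have h2 : mk ((0 : vee e) : Mat) (hlev 0) = 1 := by
        rw [← N_eq_zero_iff, N_mk]; rfl
      rw [h2, map_one]; group
    change N (f 0) = 0
    rw [h1, N_one]
  · intro a b
    apply Subtype.ext
    change N (f (a + b)) = N (f a) + N (f b)
    have h1 : f (a + b) = f a * f b := by
      apply D.inj
      rw [map_mul, hfe, hfe, hfe]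
      have h2 : mk ((a + b : vee e) : Mat) (hlev _) = mk (a : Mat) (hlev a) * mk (b : Mat) (hlev b) := by
        apply N_injective
        rw [N_mul, N_mk, N_mk, N_mk, vee_mul_eq_zero hB he hji a.2 b.2, add_zero]
        rfl
      rw [h2, map_mul]
      group
    rw [h1, N_mul, vee_mul_eq_zero hB he hji (hfm a) (hfm b), add_zero]
  · intro a b hab
    have h1 : N (f a) = N (f b) := congrArg Subtype.val hab
    have h2 := N_injective h1
    have h3 := hfe a
    rw [h2, hfe b] at h3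
    have h4 := D.inj (mul_left_cancel (mul_right_cancel h3))
    apply Subtype.ext
    have h5 := congrArg N h4
    rw [N_mk, N_mk] at h5
    exact h5.symm
  · intro t t' x c hx hc hgt n hn
    change N (f ⟨cj t (n : Mat), hn⟩) = cj t' (N (f n))
    rw [← N_conj']
    congr 1
    apply D.inj
    rw [hfe]
    have h1 : mk (cj t (n : Mat)) (hlev ⟨_, hn⟩) = t * mk (n : Mat) (hlev n) * t⁻¹ := by
      apply N_injective
      rw [N_mk, N_conj', N_mk]
    have h2 : g * ι (mk (cj t (n : Mat)) (hlev ⟨_, hn⟩)) * g⁻¹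
        = (g * ι t * g⁻¹) * ι (f n) * (g * ι t * g⁻¹)⁻¹ := by
      rw [h1, hfe]
      simp only [map_mul, map_inv]
      group
    have hfn := hf n
    have h3 : c * ι (f n) * c⁻¹ = ι (f n) := by
      rw [mul_inv_eq_iff_eq_mul]
      exact (mem_centralizer_iff.1 hc _ (mem_map_of_mem ι hfn.1)).symm
    have h4 : x * f n * x⁻¹ = f n := by
      have := hfn.2.1 x hx
      rw [mem_bot, mul_inv_eq_one, mul_inv_eq_iff_eq_mul] at this
      rw [mul_inv_eq_iff_eq_mul]
      exact this.symm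
    rw [h2, hgt]
    have h5 : ι t' * ι x * c * ι (f n) * (ι t' * ι x * c)⁻¹
        = ι t' * (ι x * (c * ι (f n) * c⁻¹) * (ι x)⁻¹) * (ι t')⁻¹ := by group
    rw [h5, h3]
    have h6 : ι x * ι (f n) * (ι x)⁻¹ = ι (f n) := by
      rw [← map_mul, ← map_inv, ← map_mul, h4]
    rw [h6, map_mul, map_mul, map_inv]

end Gamma

/-! ### Linear maps on `v` -/

section Lin

variable [CharP F 2] {e : Submodule F (Matrix (Fin m) (Fin m) F)} {he : IsAlg e} {CY : Subgroup (UT m F)}
  {o z i j : Fin m}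

/-- `n ↦ e_1 ⊗ ρ_j(n)` -/
def rowM (o j : Fin m) : Mat →ₗ[F] Mat where
  toFun n := vecMulVec (Pi.single o 1) (n j)
  map_add' a b := by
    have h : (a + b) j = a j + b j := rfl
    rw [h, vecMulVec_add]
  map_smul' c a := by
    have h : (c • a) j = c • a j := rfl
    rw [h, vecMulVec_smul, RingHom.id_apply]

/-- `n ↦ c_i(n) ⊗ e_m` -/
def colM (i z : Fin m) : Mat →ₗ[F] Mat where
  toFun n := vecMulVec (fun a => n a i) (Pi.single z 1)
  map_add' a b := by
    have h : (fun c => (a + b) c i) = (fun c => a c i) + fun c => b c i := rfl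
    rw [h, add_vecMulVec]
  map_smul' c a := by
    have h : (fun d => (c • a) d i) = c • fun d => a d i := rfl
    rw [h, smul_vecMulVec, RingHom.id_apply]

theorem rowM_mem (hB : CaseB e o z i j) (A : StepTwo.Act e he CY ⊥ (vee e)) : ∀ n ∈ vee e, rowM (F := F) o j n ∈ vee e := by
  intro n hn
  have h := g_mem hB A (wo_mem hB he) hn
  have h2 := sub_mem h hn
  rwa [add_sub_cancel_left] at h2

theorem colM_mem (hB : CaseB e o z i j) (A : StepTwo.Act e he CY ⊥ (vee e)) : ∀ n ∈ vee e, colM (F := F) i z n ∈ vee e := by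
  intro n hn
  have h := h_mem hB A (lz_mem hB he) hn
  have h2 := sub_mem h hn
  rwa [add_sub_cancel_left] at h2

theorem oz_mem (hB : CaseB e o z i j) (A : StepTwo.Act e he CY ⊥ (vee e)) : single o z (1 : F) ∈ vee e := by
  rw [single_eq_vmv]
  exact vmv_mem A (wo_mem hB he).1 (lz_mem hB he).1 (su_single (hB.oj.trans hB.jz) 1)

/-- `cj (T a b)` on `v` -/
theorem cj_T (hB : CaseB e o z i j) (A : StepTwo.Act e he CY ⊥ (vee e)) (a b : F) {n : Mat} (hn : n ∈ vee e) :
    cj (T hB he a b) n = n + (a • rowM o j n + b • colM i z n + (a * b * n j i) • single o z (1 : F)) := by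
  rw [T, cj_tt hB A _ _ hn, ph]
  have e1 : ((a • wo hB he : Ac e j) : Fin m → F) = a • Pi.single o 1 := rfl
  have e2 : ((b • lz hB he : Ar e i) : Fin m → F) = b • Pi.single z 1 := rfl
  have e3 : rowM o j n = vecMulVec (Pi.single o 1) (n j) := rfl
  have e4 : colM i z n = vecMulVec (fun a => n a i) (Pi.single z 1) := rfl
  rw [e1, e2, e3, e4, single_eq_vmv, smul_vecMulVec, vecMulVec_smul, smul_vecMulVec, vecMulVec_smul, smul_smul,
    smul_smul, mul_comm (n j i), mul_right_comm, mul_assoc]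
  abel

end Lin

/-! ### The theorem -/

section Final

variable {G : Type*} [Group G] [Finite G] {ι : UT m F →* G} [Finite F] [CharP F 2]
  {e : Submodule F (Matrix (Fin m) (Fin m) F)} {he : IsAlg e} (D : Datum ι (ofAlg e he))
  {o z i j : Fin m}

/-- (1B2) -/
theorem caseB2 (hq : 4 ≤ Nat.card F) (hn : ¬ Triv ι D.Y (Datum.OmZ (ofAlg e he) ⊥ inferInstance) ⊥)
    (hB : CaseB e o z i j)
    (hx : ∀ s t : F, s • single o j (1 : F) + t • single i z (1 : F) ∈ e → s = 0 ∧ t = 0) : False := by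
  have A := act_bot D hn
  obtain ⟨⟨n1, hn1, h1⟩, hu⟩ := ranks D hq hn hB hx
  obtain ⟨κ, hκ0, hκ1⟩ := exists_scalar (F := F) hq
  have hji : j < i := by
    by_contra h
    have h2 := Lev.apply_eq_zero (he.le (vee_le hn1)) (i := j) (j := i) (by
      rw [Fin.lt_def] at h
      omega)
    rw [h1] at h2
    exact one_ne_zero h2
  have hinv : ∀ a b : F, ¬ (a = 0 ∧ b = 0) → IsInv (ofAlg e he) (T hB he a b) := fun a b hab =>
    isInv_tt hB A _ _ fun h => hab (T_not_mem hB A hx h)
  have hI10 := hinv 1 0 (fun h => one_ne_zero h.1)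
  have hI11 := hinv 1 1 (fun h => one_ne_zero h.1)
  obtain ⟨g, hg, ⟨x0, hx0, c0, hc0, hg0⟩, hgu⟩ := D.conj _ _ hI10 hI11
  obtain ⟨γ, hγ, hγt⟩ := exists_gamma D hB hji hg
  -- linear maps
  let AA : vee e →ₗ[F] vee e := (rowM o j).restrict (rowM_mem hB A)
  let BB : vee e →ₗ[F] vee e := (colM i z).restrict (colM_mem hB A)
  let zz : vee e := ⟨single o z 1, oz_mem hB A⟩
  let δ : vee e →ₗ[F] F := (entL j i).comp (vee e).subtype
  have hoj : (Pi.single o 1 : Fin m → F) j = 0 := Pi.single_eq_of_ne hB.oj.ne' _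
  have hzi : (Pi.single z 1 : Fin m → F) i = 0 := Pi.single_eq_of_ne hB.iz.ne _
  have hAv : ∀ n : vee e, ∀ a b, (AA n : Mat) a b = (Pi.single o 1 : Fin m → F) a * (n : Mat) j b := fun n a b => rfl
  have hBv : ∀ n : vee e, ∀ a b, (BB n : Mat) a b = (n : Mat) a i * (Pi.single z 1 : Fin m → F) b := fun n a b => rfl
  have hzv : ∀ a b, (zz : Mat) a b = (Pi.single o 1 : Fin m → F) a * (Pi.single z 1 : Fin m → F) b := by
    intro a b
    change (single o z (1 : F)) a b = _
    rw [single_eq_vmv, vecMulVec_apply]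
  have hδv : ∀ n : vee e, δ n = (n : Mat) j i := fun n => rfl
  have hsm : ∀ (c : F) (n : vee e) a b, ((c • n : vee e) : Mat) a b = c * (n : Mat) a b := fun _ _ _ _ => rfl
  have hTT : ∀ (a b : F) (n : vee e), cj (T hB he a b) (n : Mat)
      = ((n + (a • AA n + b • BB n + (a * b * δ n) • zz) : vee e) : Mat) := by
    intro a b n
    rw [cj_T hB A a b n.2]
    rfl
  have hTm : ∀ (a b : F) (n : vee e), cj (T hB he a b) (n : Mat) ∈ vee e := by
    intro a b n
    rw [hTT]
    exact Subtype.property _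
  -- transformation rule
  have key : ∀ (a b a' b' : F) (x : UT m F) (c : G), x ∈ ofAlg e he →
      c ∈ centralizer (((ofAlg e he).map ι : Subgroup G) : Set G) →
      g * ι (T hB he a b) * g⁻¹ = ι (T hB he a' b') * ι x * c → ∀ n : vee e,
      γ (a • AA n + b • BB n + (a * b * δ n) • zz)
        = a' • AA (γ n) + b' • BB (γ n) + (a' * b' * δ (γ n)) • zz := by
    intro a b a' b' x c hx' hc hgt n
    have h2 := hγt (T hB he a b) (T hB he a' b') x c hx' hc hgt n (hTm a b n)
    have h3 : (⟨cj (T hB he a b) (n : Mat), hTm a b n⟩ : vee e)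
        = n + (a • AA n + b • BB n + (a * b * δ n) • zz) := Subtype.ext (hTT a b n)
    rw [h3, hTT a' b' (γ n)] at h2
    have h4 := Subtype.ext h2
    rw [map_add] at h4
    exact add_left_cancel h4
  refine B2Core.core δ AA BB zz ?_ ?_ ?_ ?_ ?_ ?_ ?_ ?_ ?_ ?_ ⟨n1, hn1⟩ h1 γ hγ ?_ ?_ hκ0 hκ1
  · intro h
    have h2 : single o z (1 : F) = 0 := congrArg Subtype.val h
    have h3 := congrFun (congrFun h2 o) z
    rw [single_apply_same] at h3
    exact one_ne_zero h3
  · intro n
    apply Subtype.ext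
    ext a b
    rw [hAv, hBv, hsm, hzv, hδv]
    ring
  · intro n
    apply Subtype.ext
    ext a b
    rw [hBv, hAv, hsm, hzv, hδv]
    ring
  · intro n
    apply Subtype.ext
    ext a b
    rw [hAv, hAv, hoj, zero_mul, mul_zero]
    rfl
  · intro n
    apply Subtype.ext
    ext a b
    rw [hBv, hBv, hzi, mul_zero, zero_mul]
    rfl
  · apply Subtype.ext
    ext a b
    rw [hAv, hzv, hoj, zero_mul, mul_zero]
    rfl
  · apply Subtype.ext
    ext a b
    rw [hBv, hzv, hzi, mul_zero, zero_mul]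
    rfl
  · intro n
    rw [hδv, hAv, hoj, zero_mul]
  · intro n
    rw [hδv, hBv, hzi, mul_zero]
  · rw [hδv, hzv, hoj, zero_mul]
  · intro a b
    by_cases hab : a = 0 ∧ b = 0
    · obtain ⟨rfl, rfl⟩ := hab
      refine ⟨0, 0, fun n => ?_⟩
      simp
    · obtain ⟨u', hu', x, hx', c, hc, hgt⟩ := hgu _ (hinv a b hab)
      obtain ⟨a', b', y, hy, rfl⟩ := hu u' hu'
      refine ⟨a', b', key a b a' b' (y * x) c (mul_mem hy hx') hc ?_⟩
      rw [hgt, map_mul, map_mul]
      group
  · intro n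
    have h2 := key 1 0 1 1 x0 c0 hx0 hc0 hg0 n
    simpa using h2

end Final

end Cfsg.Agent.SylowL.StepOne.B2Final
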