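import Cfsg.Agent.SylowL.StepOne.Basic

/-!
# Step 1, case (1B1), end: the block subgroup

`A = 1 + {matrices supported on rows ≤ j and columns > j}` is contained in `E` and invariant.
-/

set_option autoImplicit false

namespace Cfsg.Agent.SylowL.StepOne.B1End

open Matrix Subgroup
open Cfsg.Agent.SylowL.Lev Cfsg.Agent.SylowL.UT Cfsg.Agent.SylowL.Pat
open Cfsg.Agent.SylowL.EssDatum Cfsg.Agent.SylowL.EssUT Cfsg.Agent.SylowL.EssTwo
open Cfsg.Agent.SylowL.StepOne

variable {m : ℕ} {F : Type*} [Field F]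

local notation "Mat" => Matrix (Fin m) (Fin m) F

/-- The positions of the block. -/
def blk (j : Fin m) : Fin m → Fin m → Prop := fun a b => a ≤ j ∧ j < b

theorem isIdeal_blk (j : Fin m) : IsIdeal (pat F (blk j)) :=
  isIdeal_pat (fun _ _ h => h.1.trans_lt h.2) (fun _ _ _ h1 h2 => ⟨h1.le.trans h2.1, h2.2⟩)
    (fun _ _ _ h1 h2 => ⟨h1.1, h1.2.trans h2⟩)

theorem blk_mul {j : Fin m} {a b : Mat} (ha : a ∈ pat F (blk j)) (hb : b ∈ pat F (blk j)) : a * b = 0 :=
  mul_eq_zero_of_pat (fun _ _ _ h1 h2 => absurd h1.2 (not_lt_of_ge h2.1)) ha hb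

/-- The block subgroup. -/
def Ab (F : Type*) [Field F] (j : Fin m) : Subgroup (UT m F) := ofAlg (pat F (blk j)) (isIdeal_blk j).isAlg

theorem mem_Ab {j : Fin m} {g : UT m F} : g ∈ Ab F j ↔ N g ∈ pat F (blk j) := Iff.rfl

theorem normal_Ab (j : Fin m) : (Ab F j).Normal := (isIdeal_blk j).normal

theorem N_mul_Ab {j : Fin m} {g h : UT m F} (hg : g ∈ Ab F j) (hh : h ∈ Ab F j) : N (g * h) = N g + N h := by
  rw [N_mul, blk_mul hg hh, add_zero]

theorem comm_Ab {j : Fin m} {g h : UT m F} (hg : g ∈ Ab F j) (hh : h ∈ Ab F j) : g * h = h * g := by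
  apply N_injective
  rw [N_mul_Ab hg hh, N_mul_Ab hh hg, add_comm]

theorem Ab_le {e : Submodule F Mat} {he : IsAlg e} {o z i j : Fin m} (hB : CaseB e o z i j)
    (hij : (j : ℕ) + 1 = i) : Ab F j ≤ ofAlg e he := by
  intro g hg
  rw [mem_ofAlg]
  refine StepTwo.mem_of_supp fun a b hab => ?_
  have h := hg a b hab
  exact hB.big a b (h.1.trans_lt h.2) (by have := h.1; rw [Fin.lt_def]; rw [Fin.le_def] at this; omega) h.2

/-! ### The two diagonal blocks determine each other -/

section Blocks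

variable {e : Submodule F (Matrix (Fin m) (Fin m) F)} {o z i j : Fin m} [CharP F 2]

theorem low_of_up (hB : CaseB e o z i j) (hij : (j : ℕ) + 1 = i) (he : IsAlg e) {n0 : Mat} (hn0 : n0 ∈ vee e)
    (hC : ∀ w, n0 *ᵥ w = 0 → ∀ b, j < b → w b = 0) {x : Mat} (hx : x ∈ e)
    (h : ∀ c a, c ≤ j → a ≤ j → x c a = 0) : x ∈ pat F (blk j) := by
  have h1 : x * n0 = 0 := by
    ext c f
    rw [Matrix.mul_apply, Matrix.zero_apply]
    refine Finset.sum_eq_zero fun a _ => ?_
    by_cases ha : j < a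
    · rw [hB.vrow he hn0 ha, mul_zero]
    · by_cases hc : c ≤ j
      · rw [h c a hc (not_lt.1 ha), zero_mul]
      · rw [Lev.apply_eq_zero (he.le hx) (by
          rw [Fin.lt_def] at ha
          rw [Fin.le_def] at hc
          omega), zero_mul]
  have h2 : n0 * x = 0 := by rw [comm_vee hn0 hx, h1]
  intro c f hcf
  have hlt := he.le hx c f hcf
  by_cases hc : j < c
  · exfalso
    have h3 := hC (fun d => x d f) (by
      ext a
      exact congrFun (congrFun h2 a) f) c hc
    exact hcf h3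
  · refine ⟨not_lt.1 hc, ?_⟩
    by_contra hf
    exact hcf (h c f (not_lt.1 hc) (not_lt.1 hf))

theorem up_of_low (hB : CaseB e o z i j) (hij : (j : ℕ) + 1 = i) (he : IsAlg e) {n0 : Mat} (hn0 : n0 ∈ vee e)
    (hR : ∀ l, l ᵥ* n0 = 0 → ∀ a, a ≤ j → l a = 0) {x : Mat} (hx : x ∈ e)
    (h : ∀ d f, j < d → j < f → x d f = 0) : x ∈ pat F (blk j) := by
  have h1 : n0 * x = 0 := by
    ext c f
    rw [Matrix.mul_apply, Matrix.zero_apply]
    refine Finset.sum_eq_zero fun d _ => ?_
    by_cases hd : j < d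
    · by_cases hf : j < f
      · rw [h d f hd hf, mul_zero]
      · rw [Lev.apply_eq_zero (he.le hx) (by rw [Fin.lt_def] at hd hf; omega), mul_zero]
    · rw [hB.vcol he hn0 (by rw [Fin.lt_def] at hd ⊢; omega), zero_mul]
  have h2 : x * n0 = 0 := by rw [← comm_vee hn0 hx, h1]
  intro c f hcf
  have hlt := he.le hx c f hcf
  by_cases hf : j < f
  · refine ⟨?_, hf⟩
    by_contra hc
    exact hcf (h c f (not_le.1 hc) hf)
  · exfalso
    have h3 := hR (x c) (by
      ext a
      exact congrFun (congrFun h2 c) a) f (not_lt.1 hf)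
    exact hcf h3

end Blocks

/-! ### Conjugation of matrix units of the block -/

theorem cj_single_apply (b : UT m F) (a d c f : Fin m) :
    cj b (single a d 1) c f = (((b : Matˣ) : Mat) c a) * ((((b : Matˣ)⁻¹ : Matˣ) : Mat) d f) := by
  rw [cj_apply, Matrix.mul_apply, Finset.sum_eq_single d]
  · rw [Matrix.mul_single_apply_same, mul_one]
  · intro k _ hk
    rw [Matrix.mul_single_apply_of_ne (hbj := hk), zero_mul]
  · intro h; exact absurd (Finset.mem_univ _) h

theorem val_inv_eq (b : UT m F) : (((b : Matˣ)⁻¹ : Matˣ) : Mat) = 1 + N b⁻¹ := val_eq b⁻¹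

theorem diag_eq_one (b : UT m F) (a : Fin m) : ((b : Matˣ) : Mat) a a = 1 := by
  rw [val_eq, Matrix.add_apply, Matrix.one_apply_eq, Lev.apply_eq_zero (N_mem b) (by omega), add_zero]

theorem cj_comp' (s t : UT m F) (n : Mat) : cj s (cj t n) = cj (s * t) n := by
  rw [cj_apply, cj_apply, cj_apply]
  have h1 : (((s * t : UT m F) : Matˣ) : Mat) = ((s : Matˣ) : Mat) * ((t : Matˣ) : Mat) := rfl
  have h2 : ((((s * t : UT m F) : Matˣ)⁻¹ : Matˣ) : Mat)
      = (((t : Matˣ)⁻¹ : Matˣ) : Mat) * (((s : Matˣ)⁻¹ : Matˣ) : Mat) := by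
    have h3 : ((s * t : UT m F) : Matˣ) = (s : Matˣ) * (t : Matˣ) := rfl
    rw [h3, _root_.mul_inv_rev, Units.val_mul]
  rw [h1, h2]
  noncomm_ring

/-- quadratic action gives the three identities -/
theorem quad_identities {b b' : UT m F} {j d0 : Fin m} (hd0 : j < d0)
    (h : ∀ a d, a ≤ j → j < d → cj b' (cj b (single a d (1 : F)) - single a d 1)
      = cj b (single a d 1) - single a d 1) :
    (∀ c a, a ≤ j → (N b' * N b) c a = 0) ∧
    (∀ c a d f, a ≤ j → j < d → N b' c a * N b⁻¹ d f + N b c a * N b'⁻¹ d f = 0) := by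
  have key : ∀ c a d f, a ≤ j → j < d →
      ((1 : Mat) c a + N b' c a + N b c a + (N b' * N b) c a)
        * ((1 : Mat) d f + N b⁻¹ d f + N b'⁻¹ d f + (N b⁻¹ * N b'⁻¹) d f)
      - ((1 : Mat) c a + N b' c a) * ((1 : Mat) d f + N b'⁻¹ d f)
      = ((1 : Mat) c a + N b c a) * ((1 : Mat) d f + N b⁻¹ d f) - (1 : Mat) c a * (1 : Mat) d f := by
    intro c a d f ha hd
    have h1 := congrFun (congrFun (h a d ha hd) c) f
    rw [map_sub, cj_comp', Matrix.sub_apply, Matrix.sub_apply, cj_single_apply, cj_single_apply,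
      cj_single_apply] at h1
    have e1 : (((b' * b : UT m F) : Matˣ) : Mat) c a
        = (1 : Mat) c a + N b' c a + N b c a + (N b' * N b) c a := by
      rw [val_eq, N_mul]
      simp only [Matrix.add_apply]
      ring
    have e2 : ((((b' * b : UT m F) : Matˣ)⁻¹ : Matˣ) : Mat) d f
        = (1 : Mat) d f + N b⁻¹ d f + N b'⁻¹ d f + (N b⁻¹ * N b'⁻¹) d f := by
      rw [val_inv_eq, _root_.mul_inv_rev, N_mul]
      simp only [Matrix.add_apply]
      ring
    have e3 : single a d (1 : F) c f = (1 : Mat) c a * (1 : Mat) d f := by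
      rw [Matrix.single_apply, Matrix.one_apply, Matrix.one_apply]
      by_cases h2 : a = c
      · subst h2
        by_cases h3 : d = f
        · subst h3; simp
        · simp [h3]
      · simp [h2, Ne.symm h2]
    rw [e1, e2, val_eq b', val_inv_eq b', val_eq b, val_inv_eq b, e3] at h1
    simpa only [Matrix.add_apply] using h1
  have hz : ∀ (g : UT m F) (a : Fin m), N g a a = 0 := fun g a => Lev.apply_eq_zero (N_mem g) (by omega)
  have hzz : ∀ (g g' : UT m F) (a : Fin m), (N g * N g') a a = 0 := fun g g' a =>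
    Lev.apply_eq_zero (mul_mem_lev (N_mem g) (N_mem g')) (by omega)
  have k1 : ∀ c a, a ≤ j → (N b' * N b) c a = 0 := by
    intro c a ha
    have h1 := key c a d0 d0 ha hd0
    rw [hz, hz, hzz, Matrix.one_apply_eq] at h1
    linear_combination h1
  have k2 : ∀ d f, j < d → (N b⁻¹ * N b'⁻¹) d f = 0 := by
    intro d f hd
    have h1 := key j j d f le_rfl hd
    rw [hz, hz, hzz, Matrix.one_apply_eq] at h1
    linear_combination h1
  refine ⟨k1, fun c a d f ha hd => ?_⟩
  have h1 := key c a d f ha hd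
  rw [k1 c a ha, k2 d f hd] at h1
  linear_combination h1

section Count

variable {e : Submodule F (Matrix (Fin m) (Fin m) F)} {o z i j : Fin m} [CharP F 2]

/-- the elements `1 + s E_ai + t E_az` -/
def rr {a i z : Fin m} (hi : a < i) (hz : a < z) (p : F × F) : UT m F :=
  mk (single a i p.1 + single a z p.2) (add_mem (single_mem_lev (by rw [Fin.lt_def] at hi; omega) _)
    (single_mem_lev (by rw [Fin.lt_def] at hz; omega) _))

theorem false_of_subgroup [Finite F] (hB : CaseB e o z i j) (hij : (j : ℕ) + 1 = i) (he : IsAlg e) {n0 : Mat}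
    (hn0 : n0 ∈ vee e) (hR : ∀ l, l ᵥ* n0 = 0 → ∀ a, a ≤ j → l a = 0)
    (hC : ∀ w, n0 *ᵥ w = 0 → ∀ b, j < b → w b = 0) (B : Subgroup (UT m F)) (hBE : ∀ s ∈ B, N s ∈ e)
    (hcomm : ∀ s ∈ B, ∀ s' ∈ B, s * s' = s' * s)
    (hquad : ∀ s ∈ B, ∀ s' ∈ B, ∀ β ∈ pat F (blk j), cj s' (cj s β - β) = cj s β - β)
    (hcard : Nat.card B = Nat.card (Ab F j)) {b : UT m F} (hb : b ∈ B) (hbA : b ∉ Ab F j) : False := by
  classical
  have hji : j < i := by rw [Fin.lt_def]; omega
  have hq : ∀ s ∈ B, ∀ s' ∈ B, (∀ c a, a ≤ j → (N s' * N s) c a = 0) ∧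
    (∀ c a d f, a ≤ j → j < d → N s' c a * N s⁻¹ d f + N s c a * N s'⁻¹ d f = 0) := by
    intro s hs s' hs'
    exact quad_identities hji fun a d ha hd => hquad s hs s' hs' _ (single_mem_pat ⟨ha, hd⟩ 1)
  obtain ⟨c0, a0, hc0, ha0, hne⟩ : ∃ c0 a0, c0 ≤ j ∧ a0 ≤ j ∧ N b c0 a0 ≠ 0 := by
    by_contra hcon
    push Not at hcon
    exact hbA (low_of_up hB hij he hn0 hC (hBE b hb) hcon)
  obtain ⟨d0, f0, hd0, hf0, hne'⟩ : ∃ d0 f0, j < d0 ∧ j < f0 ∧ N b⁻¹ d0 f0 ≠ 0 := by
    by_contra hcon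
    push Not at hcon
    have h1 := up_of_low hB hij he hn0 hR (hBE _ (B.inv_mem hb)) hcon
    exact hbA (by
      have h2 : b⁻¹ ∈ Ab F j := h1
      exact (Subgroup.inv_mem_iff _).1 h2)
  have hca : c0 < a0 := by
    have := N_mem b c0 a0 hne
    rw [Fin.lt_def]; omega
  let f : B →* Multiplicative F :=
    { toFun := fun s => Multiplicative.ofAdd (N s.1 c0 a0)
      map_one' := by
        rw [Subgroup.coe_one, N_one, Matrix.zero_apply, ofAdd_zero]
      map_mul' := by
        intro s s'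
        rw [Subgroup.coe_mul, N_mul, Matrix.add_apply, Matrix.add_apply, (hq s'.1 s'.2 s.1 s.2).1 c0 a0 ha0,
          add_zero, ofAdd_add] }
  have hker : ∀ s : B, s ∈ f.ker → s.1 ∈ Ab F j := by
    intro s hs
    have h0 : N s.1 c0 a0 = 0 := by
      rw [MonoidHom.mem_ker] at hs
      exact Multiplicative.ofAdd.injective hs
    have h1 := (hq b hb s.1 s.2).2 c0 a0 d0 f0 ha0 hd0
    rw [h0, zero_mul, zero_add] at h1
    have h2 : N s.1⁻¹ d0 f0 = 0 := (mul_eq_zero.1 h1).resolve_left hne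
    refine low_of_up hB hij he hn0 hC (hBE s.1 s.2) fun c a _ ha => ?_
    have h3 := (hq b hb s.1 s.2).2 c a d0 f0 ha hd0
    rw [h2, mul_zero, add_zero] at h3
    exact (mul_eq_zero.1 h3).resolve_right hne'
  have hai : a0 < i := ha0.trans_lt hji
  have haz : a0 < z := hai.trans hB.iz
  have hrr : ∀ p : F × F, rr hai haz p ∈ Ab F j := by
    intro p
    rw [mem_Ab, rr, N_mk]
    exact add_mem (single_mem_pat ⟨ha0, hji⟩ _) (single_mem_pat ⟨ha0, hji.trans hB.iz⟩ _)
  have hrrN : ∀ (p : F × F) (c d : Fin m), N (rr hai haz p) c d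
      = (if a0 = c ∧ i = d then p.1 else 0) + (if a0 = c ∧ z = d then p.2 else 0) := by
    intro p c d
    rw [rr, N_mk, Matrix.add_apply, Matrix.single_apply, Matrix.single_apply]
  let g : f.ker × (F × F) → Ab F j := fun p => ⟨p.1.1.1 * rr hai haz p.2, mul_mem (hker _ p.1.2) (hrr _)⟩
  have hg : Function.Injective g := by
    rintro ⟨k, p⟩ ⟨k', p'⟩ hkk
    have h1 : k.1.1 * rr hai haz p = k'.1.1 * rr hai haz p' := congrArg Subtype.val hkk
    have h2 := congrArg N h1
    rw [N_mul_Ab (hker _ k.2) (hrr p), N_mul_Ab (hker _ k'.2) (hrr p')] at h2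
    have hin : k.1.1 * k'.1.1⁻¹ ∈ B := mul_mem k.1.2 (inv_mem k'.1.2)
    have hinv : N k'.1.1⁻¹ = - N k'.1.1 := by
      have h3 := N_mul_Ab (hker _ k'.2) (inv_mem (hker _ k'.2))
      rw [mul_inv_cancel, N_one] at h3
      exact (neg_eq_of_add_eq_zero_right h3.symm).symm
    have hN : N (k.1.1 * k'.1.1⁻¹) = N (rr hai haz p') - N (rr hai haz p) := by
      rw [N_mul_Ab (hker _ k.2) (inv_mem (hker _ k'.2)), hinv]
      have : N k.1.1 = N k'.1.1 + N (rr hai haz p') - N (rr hai haz p) := by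
        rw [← h2]; abel
      rw [this]; abel
    have hc := hcomm b hb _ hin
    rw [UT.commute_iff, hN] at hc
    have hrow : ∀ c d, c ≠ a0 → (N (rr hai haz p') - N (rr hai haz p)) c d = 0 := by
      intro c d hc
      rw [Matrix.sub_apply, hrrN, hrrN]
      simp [Ne.symm hc]
    have hzero : ∀ d, (N (rr hai haz p') - N (rr hai haz p)) a0 d = 0 := by
      intro d
      have h4 := congrFun (congrFun hc c0) d
      rw [Matrix.mul_apply, Matrix.mul_apply, Finset.sum_eq_single a0] at h4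
      · rw [Finset.sum_eq_zero (s := Finset.univ) (f := fun k => (N (rr hai haz p') - N (rr hai haz p)) c0 k
          * N b k d)] at h4
        · exact (mul_eq_zero.1 h4).resolve_left hne
        · intro k _
          rw [hrow c0 k hca.ne, zero_mul]
      · intro k _ hk
        rw [hrow k d hk, mul_zero]
      · intro h; exact absurd (Finset.mem_univ _) h
    have hzi : z ≠ i := hB.iz.ne'
    have hpi : p.1 = p'.1 := by
      have h5 := hzero i
      rw [Matrix.sub_apply, hrrN, hrrN] at h5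
      simp only [true_and, if_true, if_neg hzi, add_zero] at h5
      exact (sub_eq_zero.1 h5).symm
    have hpz : p.2 = p'.2 := by
      have h5 := hzero z
      rw [Matrix.sub_apply, hrrN, hrrN] at h5
      simp only [true_and, if_true, if_neg hzi.symm, zero_add] at h5
      exact (sub_eq_zero.1 h5).symm
    have hpp : p = p' := Prod.ext hpi hpz
    subst hpp
    have h6 : k.1.1 = k'.1.1 := mul_right_cancel h1
    have h7 : k = k' := Subtype.ext (Subtype.ext h6)
    rw [h7]
  have c1 : Nat.card f.ker * (Nat.card F * Nat.card F) ≤ Nat.card (Ab F j) := by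
    have := Nat.card_le_card_of_injective g hg
    rwa [Nat.card_prod, Nat.card_prod] at this
  have c2 : Nat.card B ≤ Nat.card F * Nat.card f.ker := by
    rw [Subgroup.card_eq_card_quotient_mul_card_subgroup f.ker]
    refine Nat.mul_le_mul_right _ ?_
    rw [Nat.card_congr (QuotientGroup.quotientKerEquivRange f).toEquiv]
    exact Nat.card_le_card_of_injective (fun x : f.range => Multiplicative.toAdd x.1)
      fun x y h => Subtype.ext (Multiplicative.toAdd.injective h)
  rw [hcard] at c2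
  have c3 := c1.trans c2
  have hq1 : 1 < Nat.card F := Finite.one_lt_card
  have hk : 0 < Nat.card f.ker := Nat.card_pos
  have c4 : Nat.card F * Nat.card f.ker * Nat.card F ≤ Nat.card F * Nat.card f.ker * 1 := by
    calc Nat.card F * Nat.card f.ker * Nat.card F = Nat.card f.ker * (Nat.card F * Nat.card F) := by ring
      _ ≤ _ := by rw [mul_one]; exact c3
  have c5 := Nat.le_of_mul_le_mul_left c4 (Nat.mul_pos (by omega) hk)
  omega

end Count

end Cfsg.Agent.SylowL.StepOne.B1End
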