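import Cfsg.Agent.SylowL.StepOne.B1Core

/-!
# Step 1, case (1B1): the functional and the cases
-/

set_option autoImplicit false

namespace Cfsg.Agent.SylowL.StepOne.B1Comm

open Matrix Subgroup
open Cfsg.Agent.SylowL.Lev Cfsg.Agent.SylowL.UT Cfsg.Agent.SylowL.Pat
open Cfsg.Agent.SylowL.EssDatum Cfsg.Agent.SylowL.EssUT Cfsg.Agent.SylowL.EssTwo
open Cfsg.Agent.SylowL.StepOne
open Cfsg.Agent.SylowL.StepOne.B1Vec Cfsg.Agent.SylowL.StepOne.B1Core

variable {m : ℕ} {F : Type*} [Field F]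

local notation "Mat" => Matrix (Fin m) (Fin m) F

section

variable [CharP F 2] {e : Submodule F (Matrix (Fin m) (Fin m) F)} {he : IsAlg e}
  {CY : Subgroup (UT m F)} {o z i j : Fin m} {c : F}

theorem mulVec_apply_sum (y : Mat) (w : Fin m → F) (a : Fin m) : (y *ᵥ w) a = ∑ b, y a b * w b := rfl

theorem big_mem (hB : CaseB e o z i j) {a b : Fin m} (h1 : a < b) (h2 : a < i) (h3 : j < b) :
    (ε a ⋄ ε b : Mat) ∈ e := by
  rw [← single_one_eq]
  exact hB.big a b h1 h2 h3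

theorem row0 (he : IsAlg e) (hB : CaseB e o z i j) {n0 : Mat} (hn0 : n0 ∈ vee e) {b : Fin m} (hb : j < b) :
    ε b ᵥ* n0 = 0 := by
  ext a
  rw [ε_vecMul, hB.vrow he hn0 hb]; rfl

theorem cases (A : StepTwo.Act e he CY ⊥ (vee e)) (hB : CaseB e o z i j)
    (hx : single o j (1 : F) + c • single i z (1 : F) ∈ e) {n0 : Mat} (hn0 : n0 ∈ vee e) (h0 : n0 j z = 1)
    {w1 l1 : Fin m → F}
    (f1 : ∀ l : Fin m → F, l ᵥ* n0 = 0 → ∀ y ∈ e, l ⬝ᵥ (y *ᵥ w1) = 0)
    (f2 : ∀ w : Fin m → F, n0 *ᵥ w = 0 → ∀ y ∈ e, l1 ⬝ᵥ (y *ᵥ w) = 0)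
    (f3 : ∀ y ∈ e, (y *ᵥ w1) j = c * (l1 ⬝ᵥ (y *ᵥ ε i)))
    (f5 : w1 z = 0) {y0 : Mat} (hy0 : y0 ∈ e) (f4 : (y0 *ᵥ w1) j ≠ 0) :
    (j : ℕ) + 1 = i ∧ (∀ l : Fin m → F, l ᵥ* n0 = 0 → ∀ a, a ≤ j → l a = 0) ∧
      (∀ w : Fin m → F, n0 *ᵥ w = 0 → ∀ b, j < b → w b = 0) := by
  have hcol := col_eq he hB hx hn0
  rw [h0, one_smul] at hcol
  have hy0l := he.le hy0
  -- `i ≠ j`
  have hij : i ≠ j := by
    intro hij
    have h1 : (n0 * n0) o z = 0 := by rw [sq_vee hn0]; rfl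
    rw [Matrix.mul_apply, Finset.sum_eq_single j] at h1
    · rw [h0, mul_one] at h1
      have h2 := congrFun hcol o
      rw [Pi.smul_apply, mulVec_ε, ε_same, hij, h1, smul_zero] at h2
      exact zero_ne_one h2
    · intro a _ ha
      rcases lt_or_gt_of_ne ha with h | h
      · rw [hB.vcol he hn0 (hij ▸ h), zero_mul]
      · rw [hB.vrow he hn0 h, mul_zero]
    · intro h; exact absurd (Finset.mem_univ j) h
  -- some coordinate
  have hex : ∃ b, j < b ∧ w1 b ≠ 0 := by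
    by_contra hcon
    push Not at hcon
    apply f4
    rw [mulVec_apply_sum]
    refine Finset.sum_eq_zero fun b _ => ?_
    by_cases hb : j < b
    · rw [hcon b hb, mul_zero]
    · rw [Lev.apply_eq_zero hy0l (by rw [Fin.lt_def] at hb; omega), zero_mul]
  rcases lt_trichotomy ((j : ℕ) + 1) i with hlt | heq | hgt
  · -- `i ≥ j + 2`
    exfalso
    obtain ⟨b1, hb1⟩ : ∃ b1 : Fin m, (b1 : ℕ) = j + 1 := ⟨⟨j + 1, by have := i.2; omega⟩, rfl⟩
    have hjb1 : j < b1 := by rw [Fin.lt_def]; omega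
    have hji : j < i := by rw [Fin.lt_def]; omega
    have hb1i : b1 < i := by rw [Fin.lt_def]; omega
    obtain ⟨b, hjb, hb⟩ := hex
    by_cases hbb : b = b1
    · subst hbb
      have h1 := f3 _ (big_mem hB hjb1 hji hjb1)
      rw [vmv_mulVec, vmv_mulVec, ε_dot, dot_ε, ε_ne hb1i.ne', zero_smul, dotProduct_zero, mul_zero,
        Pi.smul_apply, ε_same, smul_eq_mul, mul_one] at h1
      exact hb h1
    · have hb1b : b1 < b := by
        rw [Fin.lt_def] at hjb ⊢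
        have : (b : ℕ) ≠ b1 := fun h => hbb (Fin.ext h)
        omega
      have h1 := f1 (ε b1) (row0 he hB hn0 hjb1) _ (big_mem hB hb1b hb1i hjb)
      rw [vmv_mulVec, ε_dot, ε_dot, Pi.smul_apply, ε_same, smul_eq_mul, mul_one] at h1
      exact hb h1
  all_goals
    have hle : (i : ℕ) ≤ j + 1 := by omega
    obtain ⟨a, hai, ha⟩ : ∃ a, a < i ∧ l1 a ≠ 0 := by
      have h1 := f4
      rw [f3 y0 hy0] at h1
      have h2 := right_ne_zero_of_mul h1
      rw [dotProduct] at h2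
      obtain ⟨a, -, ha⟩ := Finset.exists_ne_zero_of_sum_ne_zero h2
      have h3 := right_ne_zero_of_mul ha
      rw [mulVec_ε] at h3
      refine ⟨a, ?_, left_ne_zero_of_mul ha⟩
      have := hy0l a i h3
      rw [Fin.lt_def]; omega
    have hC : ∀ w : Fin m → F, n0 *ᵥ w = 0 → ∀ b, j < b → w b = 0 := by
      intro w hw b hb
      have hab : a < b := by rw [Fin.lt_def] at hai hb ⊢; omega
      have h1 := f2 w hw _ (big_mem hB hab hai hb)
      rw [vmv_mulVec, ε_dot, dotProduct_smul, dot_ε, smul_eq_mul] at h1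
      exact (mul_eq_zero.1 h1).resolve_right ha
  · refine ⟨heq, fun l hl a' ha' => ?_, hC⟩
    obtain ⟨b, hjb, hb⟩ := hex
    have h1 := f1 l hl _ (big_mem hB (ha'.trans_lt hjb) (by rw [Fin.le_def] at ha'; rw [Fin.lt_def]; omega) hjb)
    rw [vmv_mulVec, ε_dot, dotProduct_smul, dot_ε, smul_eq_mul] at h1
    exact (mul_eq_zero.1 h1).resolve_left hb
  · -- `i < j`
    exfalso
    have hij' : i < j := by
      rw [Fin.lt_def]
      have : (i : ℕ) ≠ j := fun h => hij (Fin.ext h)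
      omega
    have hann : ∀ y ∈ e, y *ᵥ (n0 *ᵥ w1) = 0 := by
      intro y hy
      rw [mulVec_mulVec, ← comm_vee hn0 hy, ← mulVec_mulVec]
      obtain ⟨u, hu⟩ := exists_mulVec_eq (n := n0) (w := y *ᵥ w1) fun l hl => f1 l hl y hy
      rw [← hu, mulVec_mulVec, sq_vee hn0, zero_mulVec]
    have hj : (n0 *ᵥ w1) j = 0 := by
      rw [← ε_dot (n0 *ᵥ w1) j, dotProduct_mulVec, row_eq he hB hx hn0, h0, one_smul, ε_dot, f5]
    obtain ⟨b, hb⟩ := ann A hB hx hn0 h0 hann hj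
    have hker : n0 *ᵥ (w1 - b • (c • ε i)) = 0 := by
      rw [mulVec_sub, hb, mulVec_smul, mulVec_smul, hcol, sub_self]
    obtain ⟨d, hjd, hd⟩ := hex
    have h1 := hC _ hker d hjd
    rw [Pi.sub_apply, Pi.smul_apply, Pi.smul_apply, ε_ne (hij'.trans hjd).ne', smul_zero, smul_zero, sub_zero] at h1
    exact hd h1

end

end Cfsg.Agent.SylowL.StepOne.B1Comm
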