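import Cfsg.Agent.SylowL.EssTwo

/-!
# Step 1: `Y` acts nontrivially on `Ω₁ Z(E)`

`v = vAlg ⊥ _ e`, `V = 1 + v = Ω₁ Z(E)`, `E = 1 + e = C_S(V)`.
-/

set_option autoImplicit false

namespace Cfsg.Agent.SylowL.StepOne

open Matrix Subgroup
open Cfsg.Agent.SylowL.Lev Cfsg.Agent.SylowL.UT Cfsg.Agent.SylowL.Pat
open Cfsg.Agent.SylowL.EssDatum Cfsg.Agent.SylowL.EssUT Cfsg.Agent.SylowL.EssTwo

variable {m : ℕ} {F : Type*} [Field F]

local notation "Mat" => Matrix (Fin m) (Fin m) F

/-! ### The section `V = Ω₁ Z(E)` -/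

theorem triv_bot_iff {G : Type*} [Group G] {ι : UT m F →* G} {E : Subgroup (UT m F)} (D : Datum ι E) :
    Triv ι D.Y (Datum.OmZ E (ofAlg (⊥ : Submodule F Mat) isIdeal_bot.isAlg) isIdeal_bot.normal)
      (ofAlg (⊥ : Submodule F Mat) isIdeal_bot.isAlg) ↔
    Triv ι D.Y (Datum.OmZ E ⊥ inferInstance) ⊥ := by
  have key : ∀ (K : Subgroup (UT m F)) (hK : K.Normal), K = ⊥ →
      (Triv ι D.Y (Datum.OmZ E K hK) K ↔ Triv ι D.Y (Datum.OmZ E ⊥ inferInstance) ⊥) := by
    rintro K hK rfl
    exact Iff.rfl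
  exact key _ _ ofAlg_bot

/-- `v`, for `K = 1`. -/
def vee [CharP F 2] (e : Submodule F Mat) : Submodule F Mat := vAlg ⊥ isIdeal_bot e

theorem mem_vee [CharP F 2] {e : Submodule F Mat} {n : Mat} :
    n ∈ vee e ↔ n ∈ e ∧ n * n = 0 ∧ ∀ x ∈ e, n * x = x * n := by
  rw [vee, mem_vAlg, Submodule.mem_bot]
  refine and_congr_right fun _ => and_congr_right fun _ => forall₂_congr fun x _ => ?_
  rw [Submodule.mem_bot, sub_eq_zero]

theorem mem_OmZ_bot [CharP F 2] {e : Submodule F Mat} (he : IsAlg e) {g : UT m F} :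
    g ∈ Datum.OmZ (ofAlg e he) ⊥ inferInstance ↔ N g ∈ vee e := by
  have key : ∀ (K : Subgroup (UT m F)) (hK : K.Normal), K = ⊥ →
      (g ∈ Datum.OmZ (ofAlg e he) K hK ↔ g ∈ Datum.OmZ (ofAlg e he) ⊥ inferInstance) := by
    rintro K hK rfl
    exact Iff.rfl
  rw [← key _ isIdeal_bot.normal ofAlg_bot]
  exact mem_OmZ_iff isIdeal_bot he

theorem exists_alg_bot {G : Type*} [Group G] {ι : UT m F →* G} [Finite F] [CharP F 2]
    {E : Subgroup (UT m F)} (D : Datum ι E) (hn : ¬ Triv ι D.Y (Datum.OmZ E ⊥ inferInstance) ⊥) :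
    ∃ (e : Submodule F Mat) (he : IsAlg e), E = ofAlg e he := by
  refine exists_alg D isIdeal_bot ?_ ?_
  · rw [ofAlg_bot]; exact bot_le
  · rwa [triv_bot_iff]

theorem act_bot {G : Type*} [Group G] [Finite G] {ι : UT m F →* G} [Finite F] [CharP F 2]
    {e : Submodule F Mat} {he : IsAlg e} (D : Datum ι (ofAlg e he))
    (hn : ¬ Triv ι D.Y (Datum.OmZ (ofAlg e he) ⊥ inferInstance) ⊥) :
    StepTwo.Act e he D.CY ⊥ (vee e) := by
  refine act D isIdeal_bot ?_ ?_
  · rw [ofAlg_bot]; exact bot_le
  · rwa [triv_bot_iff]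

section

variable {e : Submodule F (Matrix (Fin m) (Fin m) F)} {he : IsAlg e} {CY : Subgroup (UT m F)}

theorem mem_e_of_comm [CharP F 2] (A : StepTwo.Act e he CY ⊥ (vee e)) {x : Mat} (hx : x ∈ lev m F 1)
    (h : ∀ n ∈ vee e, n * x = x * n) : x ∈ e := by
  rw [A.mem_e]
  refine ⟨hx, fun n hn => ?_⟩
  rw [Submodule.mem_bot, sub_eq_zero]
  exact h n hn

theorem vee_le [CharP F 2] : vee e ≤ e := fun _ h => h.1

theorem comm_vee [CharP F 2] {n x : Mat} (hn : n ∈ vee e) (hx : x ∈ e) : n * x = x * n := (mem_vee.1 hn).2.2 x hx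

theorem sq_vee [CharP F 2] {n : Mat} (hn : n ∈ vee e) : n * n = 0 := (mem_vee.1 hn).2.1

theorem mul_vee [CharP F 2] {n n' : Mat} (hn : n ∈ vee e) (hn' : n' ∈ vee e) : n * n' = n' * n :=
  comm_vee hn (vee_le hn')

/-- if `E_ab ∈ e` then column `a` and row `b` of `n ∈ v` vanish -/
theorem vee_col [CharP F 2] (he : IsAlg e) {a b : Fin m} (hab : a < b) (h : single a b (1 : F) ∈ e) {n : Mat}
    (hn : n ∈ vee e) (c : Fin m) : n c a = 0 := by
  have h1 : mk n (he.le (vee_le hn)) * root a b hab 1 = root a b hab 1 * mk n (he.le (vee_le hn)) := by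
    rw [UT.commute_iff, N_mk, N_root]
    exact comm_vee hn h
  have h2 := ((commute_root_iff hab one_ne_zero).1 h1).1 c
  rwa [N_mk] at h2

theorem vee_row [CharP F 2] (he : IsAlg e) {a b : Fin m} (hab : a < b) (h : single a b (1 : F) ∈ e) {n : Mat}
    (hn : n ∈ vee e) (c : Fin m) : n b c = 0 := by
  have h1 : mk n (he.le (vee_le hn)) * root a b hab 1 = root a b hab 1 * mk n (he.le (vee_le hn)) := by
    rw [UT.commute_iff, N_mk, N_root]
    exact comm_vee hn h
  have h2 := ((commute_root_iff hab one_ne_zero).1 h1).2 c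
  rwa [N_mk] at h2

theorem single_mem_of_vee [CharP F 2] (A : StepTwo.Act e he CY ⊥ (vee e)) {a b : Fin m} (hab : a < b)
    (h1 : ∀ n ∈ vee e, ∀ c, n c a = 0) (h2 : ∀ n ∈ vee e, ∀ c, n b c = 0) (c : F) :
    single a b c ∈ e := by
  refine mem_e_of_comm A (single_mem_lev (by rw [Fin.lt_def] at hab; omega) c) fun n hn => ?_
  have h3 : n * single a b c = 0 := by
    ext x y
    rw [StepTwo.mul_single_entry, Matrix.zero_apply, h1 n hn, zero_mul, ite_self]
  have h4 : single a b c * n = 0 := by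
    ext x y
    rw [StepTwo.single_mul_entry, Matrix.zero_apply, h2 n hn, mul_zero, ite_self]
  rw [h3, h4]

/-- the corner position is in `e` -/
theorem single_oz_mem [CharP F 2] (A : StepTwo.Act e he CY ⊥ (vee e)) {o z : Fin m} (ho : (o : ℕ) = 0)
    (hz : (z : ℕ) + 1 = m) (hoz : o < z) (c : F) : single o z c ∈ e :=
  single_mem_of_vee A hoz (fun n hn c => Lev.apply_eq_zero (he.le (vee_le hn)) (by omega))
    (fun n hn c => Lev.apply_eq_zero (he.le (vee_le hn)) (by have := c.2; omega)) c

/-! ### (P4) for one more involution -/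

/-- If `|[V, x]| = q` then every involution compatible with `x` is in `E X`, `X = 1 + F x`. -/
theorem exists_sub_smul_mem {k v : Submodule F Mat} (A : StepTwo.Act e he CY k v) {x y : Mat}
    (hx : StepTwo.Inv e x) (hd : Module.finrank F v ≤ Module.finrank F (StepTwo.cen k v x) + 1)
    (hy : y ∈ lev m F 1) (hyy : y * y ∈ e) (hl : ∀ u ∈ e, y * u ∈ e) (hr : ∀ u ∈ e, u * y ∈ e)
    (hxy : x * y ∈ e) (hyx : y * x ∈ e) : ∃ c : F, y - c • x ∈ e := by
  classical
  set r : Submodule F Mat := e ⊔ (Submodule.span F {x} ⊔ Submodule.span F {y}) with hrdef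
  have hmem : ∀ u ∈ r, ∃ a ∈ e, ∃ s t : F, u = a + s • x + t • y := by
    intro u hu
    obtain ⟨a, ha, b, hb, rfl⟩ := Submodule.mem_sup.1 hu
    obtain ⟨c, hc, d, hd, rfl⟩ := Submodule.mem_sup.1 hb
    obtain ⟨s, rfl⟩ := Submodule.mem_span_singleton.1 hc
    obtain ⟨t, rfl⟩ := Submodule.mem_span_singleton.1 hd
    exact ⟨a, ha, s, t, by abel⟩
  have hle : e ≤ r := le_sup_left
  have hxr : x ∈ r := Submodule.mem_sup_right (Submodule.mem_sup_left (Submodule.mem_span_singleton_self x))
  have hyr : y ∈ r := Submodule.mem_sup_right (Submodule.mem_sup_right (Submodule.mem_span_singleton_self y))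
  have hrl : r ≤ lev m F 1 := by
    intro u hu
    obtain ⟨a, ha, s, t, rfl⟩ := hmem u hu
    exact add_mem (add_mem (he.le ha) (Submodule.smul_mem _ _ hx.lev)) (Submodule.smul_mem _ _ hy)
  have hmul : ∀ u ∈ r, ∀ w ∈ r, u * w ∈ e := by
    intro u hu w hw
    obtain ⟨a, ha, s, t, rfl⟩ := hmem u hu
    obtain ⟨b, hb, s', t', rfl⟩ := hmem w hw
    have e1 : (a + s • x + t • y) * (b + s' • x + t' • y) = a * b + s' • (a * x) + t' • (a * y)
        + s • (x * b) + (s' * s) • (x * x) + (t' * s) • (x * y)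
        + t • (y * b) + (s' * t) • (y * x) + (t' * t) • (y * y) := by
      simp only [add_mul, mul_add, Matrix.smul_mul, Matrix.mul_smul, smul_smul]
      abel
    rw [e1]
    have sm := fun (c : F) {w : Mat} (hw : w ∈ e) => e.smul_mem c hw
    exact add_mem (add_mem (add_mem (add_mem (add_mem (add_mem (add_mem (add_mem (he.mul _ ha _ hb)
      (sm _ (hx.right _ ha))) (sm _ (hr _ ha))) (sm _ (hx.left _ hb))) (sm _ hx.sq)) (sm _ hxy))
      (sm _ (hl _ hb))) (sm _ hyx)) (sm _ hyy)
  have h4 := A.p4 r hle hrl hmul x hx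
  -- `e ⊔ F x` has codimension zero in `r`
  set r1 : Submodule F Mat := e ⊔ Submodule.span F {x} with hr1
  have hlt : e < r1 := by
    refine lt_of_le_of_ne le_sup_left fun h => hx.notMem ?_
    rw [h]
    exact Submodule.mem_sup_right (Submodule.mem_span_singleton_self x)
  have hlt' := Submodule.finrank_lt_finrank_of_lt hlt
  have hr1r : r1 ≤ r := sup_le hle ((Submodule.span_singleton_le_iff_mem _ _).2 hxr)
  have heq : r1 = r := Submodule.eq_of_le_of_finrank_le hr1r (by omega)
  rw [← heq] at hyr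
  obtain ⟨a, ha, b, hb, hab⟩ := Submodule.mem_sup.1 hyr
  obtain ⟨s, rfl⟩ := Submodule.mem_span_singleton.1 hb
  exact ⟨s, by rw [← hab, add_sub_cancel_right]; exact ha⟩

/-- A linear functional cutting out `cen`. -/
theorem finrank_le_cen {k v : Submodule F Mat} {x : Mat} (f : Mat →ₗ[F] F)
    (h : ∀ n ∈ v, f n = 0 → x * n - n * x ∈ k) :
    Module.finrank F v ≤ Module.finrank F (StepTwo.cen k v x) + 1 := by
  set g : v →ₗ[F] F := f.comp v.subtype with hg
  have h1 := LinearMap.finrank_range_add_finrank_ker g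
  have h2 : Module.finrank F (LinearMap.range g) ≤ 1 := by
    have := Submodule.finrank_le (LinearMap.range g)
    rwa [Module.finrank_self] at this
  have h3 : Module.finrank F (LinearMap.ker g) ≤ Module.finrank F (StepTwo.cen k v x) := by
    have h4 : (LinearMap.ker g).map v.subtype ≤ StepTwo.cen k v x := by
      rintro _ ⟨n, hn, rfl⟩
      rw [StepTwo.mem_cen]
      exact ⟨n.2, h _ n.2 hn⟩
    have h5 := Submodule.finrank_mono h4
    have h6 : Module.finrank F ((LinearMap.ker g).map v.subtype) = Module.finrank F (LinearMap.ker g) :=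
      (Submodule.equivMapOfInjective v.subtype (Submodule.injective_subtype v) _).finrank_eq.symm
    rwa [h6] at h5
  omega

end

/-! ### No involution is trivial on `E / E'` -/

theorem exists_not_mem_commutator {G : Type*} [Group G] [Finite G] {ι : UT m F →* G} [Finite F] [CharP F 2]
    {e : Submodule F Mat} {he : IsAlg e} (D : Datum ι (ofAlg e he)) {x : Mat} (hx : StepTwo.Inv e x) :
    ∃ g ∈ ofAlg e he, mk x hx.lev * g * (mk x hx.lev)⁻¹ * g⁻¹ ∉ ⁅ofAlg e he, ofAlg e he⁆ :=
  D.exists_not_mem_commutator isPGroup_UT (isInv_mk he hx)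

/-! ### Case (B) -/

/-- Positions `(1, j)` and `(i, m)` are the extremal missing positions of `e`. -/
structure CaseB (e : Submodule F Mat) (o z i j : Fin m) : Prop where
  ho : (o : ℕ) = 0
  hz : (z : ℕ) + 1 = m
  oj : o < j
  jz : j < z
  oi : o < i
  iz : i < z
  noj : single o j (1 : F) ∉ e
  niz : single i z (1 : F) ∉ e
  row : ∀ b, j < b → single o b (1 : F) ∈ e
  col : ∀ a, a < i → single a z (1 : F) ∈ e
  big : ∀ a b, a < b → a < i → j < b → single a b (1 : F) ∈ e

namespace CaseB

variable [CharP F 2] {e : Submodule F (Matrix (Fin m) (Fin m) F)} {he : IsAlg e}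
  {CY : Subgroup (UT m F)} {o z i j : Fin m}

/-- columns `< i` of `n ∈ v` vanish -/
theorem vcol (hB : CaseB e o z i j) (he : IsAlg e) {n : Mat} (hn : n ∈ vee e) {a : Fin m} (ha : a < i) (c : Fin m) :
    n c a = 0 := vee_col he (ha.trans hB.iz) (hB.col a ha) hn c

/-- rows `> j` of `n ∈ v` vanish -/
theorem vrow (hB : CaseB e o z i j) (he : IsAlg e) {n : Mat} (hn : n ∈ vee e) {b : Fin m} (hb : j < b) (c : Fin m) :
    n b c = 0 := vee_row he (hB.oj.trans hb) (hB.row b hb) hn c

/-- row `j` of `n ∈ v` is annihilated by `e` -/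
theorem row_mul (hB : CaseB e o z i j) (he : IsAlg e) {n y : Mat} (hn : n ∈ vee e) (hy : y ∈ e) : n j ᵥ* y = 0 := by
  have h1 : n j ᵥ* y = (y * n) j := by
    rw [← comm_vee hn hy]; rfl
  rw [h1]
  ext b
  rw [Matrix.mul_apply, Pi.zero_apply]
  refine Finset.sum_eq_zero fun c _ => ?_
  by_cases hc : j < c
  · rw [hB.vrow he hn hc, mul_zero]
  · rw [Lev.apply_eq_zero (he.le hy) (by rw [Fin.lt_def] at hc; omega), zero_mul]

/-- column `i` of `n ∈ v` is annihilated by `e` -/
theorem mul_col (hB : CaseB e o z i j) (he : IsAlg e) {n y : Mat} (hn : n ∈ vee e) (hy : y ∈ e) :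
    y *ᵥ (fun a => n a i) = 0 := by
  ext a
  have h1 : (y *ᵥ (fun a => n a i)) a = (y * n) a i := rfl
  rw [h1, ← comm_vee hn hy, Matrix.mul_apply, Pi.zero_apply]
  refine Finset.sum_eq_zero fun c _ => ?_
  by_cases hc : c < i
  · rw [hB.vcol he hn hc, zero_mul]
  · rw [Lev.apply_eq_zero (he.le hy) (by rw [Fin.lt_def] at hc; omega), mul_zero]

theorem lt_j (hB : CaseB e o z i j) (he : IsAlg e) {n : Mat} (hn : n ∈ vee e) {b : Fin m} (hb : b < i) : n j b = 0 :=
  hB.vcol he hn hb j

/-- `x_1j` normalises `E` -/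
theorem inv_oj (hB : CaseB e o z i j) (A : StepTwo.Act e he CY ⊥ (vee e)) {c : F} (hc : c ≠ 0) :
    StepTwo.Inv e (single o j c) where
  lev := single_mem_lev (by have := hB.oj; rw [Fin.lt_def] at this; omega) c
  notMem := single_not_mem hB.noj hc
  sq := by rw [Matrix.single_mul_single_of_ne (h := hB.oj.ne')]; exact zero_mem _
  left y hy := by
    have hyl := he.le hy
    have hjz := hB.oj
    rw [Fin.lt_def] at hjz
    refine mem_e_of_comm A (lev_anti (by norm_num) (mul_mem_lev
      (single_mem_lev (k := 1) (by omega) c) hyl)) fun n hn => ?_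
    have h1 : n * (single o j c * y) = 0 := by
      have : n * single o j c = 0 := by
        ext a b
        rw [StepTwo.mul_single_entry, Matrix.zero_apply,
          Lev.apply_eq_zero (he.le (vee_le hn)) (by have := hB.ho; omega), zero_mul, ite_self]
      rw [← mul_assoc, this, zero_mul]
    have h2 : (single o j c * y) * n = 0 := by
      rw [mul_assoc, ← comm_vee hn hy, ← mul_assoc]
      ext a b
      have h3 : (single o j c * n * y) a b = ((single o j c * n) a ᵥ* y) b := rfl
      rw [h3, Matrix.zero_apply]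
      by_cases ha : a = o
      · have h4 : (single o j c * n) a = c • n j := by
          ext d
          rw [StepTwo.single_mul_entry, if_pos ha, Pi.smul_apply, smul_eq_mul]
        rw [h4, smul_vecMul, hB.row_mul he hn hy, smul_zero, Pi.zero_apply]
      · have h4 : (single o j c * n) a = 0 := by
          ext d
          rw [StepTwo.single_mul_entry, if_neg ha, Pi.zero_apply]
        rw [h4, zero_vecMul, Pi.zero_apply]
    rw [h1, h2]
  right y hy := by
    have : y * single o j c = 0 := by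
      ext a b
      rw [StepTwo.mul_single_entry, Matrix.zero_apply,
        Lev.apply_eq_zero (he.le hy) (by have := hB.ho; omega), zero_mul, ite_self]
    rw [this]
    exact zero_mem _

/-- `x_im` normalises `E` -/
theorem inv_iz (hB : CaseB e o z i j) (A : StepTwo.Act e he CY ⊥ (vee e)) {c : F} (hc : c ≠ 0) :
    StepTwo.Inv e (single i z c) where
  lev := single_mem_lev (by have := hB.iz; rw [Fin.lt_def] at this; omega) c
  notMem := single_not_mem hB.niz hc
  sq := by rw [Matrix.single_mul_single_of_ne (h := hB.iz.ne')]; exact zero_mem _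
  left y hy := by
    have : single i z c * y = 0 := by
      ext a b
      rw [StepTwo.single_mul_entry, Matrix.zero_apply,
        Lev.apply_eq_zero (he.le hy) (by have := hB.hz; have := b.2; omega), mul_zero, ite_self]
    rw [this]
    exact zero_mem _
  right y hy := by
    have hyl := he.le hy
    have hjz := hB.iz
    rw [Fin.lt_def] at hjz
    refine mem_e_of_comm A (lev_anti (by norm_num) (mul_mem_lev hyl
      (single_mem_lev (k := 1) (by omega) c))) fun n hn => ?_
    have h1 : y * single i z c * n = 0 := by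
      have : single i z c * n = 0 := by
        ext a b
        rw [StepTwo.single_mul_entry, Matrix.zero_apply,
          Lev.apply_eq_zero (he.le (vee_le hn)) (by have := hB.hz; have := b.2; omega), mul_zero, ite_self]
      rw [mul_assoc, this, mul_zero]
    have h2 : n * (y * single i z c) = 0 := by
      rw [← mul_assoc, comm_vee hn hy, mul_assoc]
      ext a b
      have h3 : (y * (n * single i z c)) a b = (y *ᵥ (fun d => (n * single i z c) d b)) a := rfl
      rw [h3, Matrix.zero_apply]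
      by_cases hb : b = z
      · have h4 : (fun d => (n * single i z c) d b) = c • fun d => n d i := by
          ext d
          rw [StepTwo.mul_single_entry, if_pos hb, Pi.smul_apply, smul_eq_mul, mul_comm]
        rw [h4, mulVec_smul, hB.mul_col he hn hy, smul_zero, Pi.zero_apply]
      · have h4 : (fun d => (n * single i z c) d b) = 0 := by
          ext d
          rw [StepTwo.mul_single_entry, if_neg hb, Pi.zero_apply]
        rw [h4, mulVec_zero, Pi.zero_apply]
    rw [h1, h2]

/-- some `n ∈ v` has nonzero row `j` -/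
theorem exists_row (hB : CaseB e o z i j) (A : StepTwo.Act e he CY ⊥ (vee e)) : ∃ n ∈ vee e, n j ≠ 0 := by
  by_contra hcon
  push Not at hcon
  refine hB.noj (single_mem_of_vee A hB.oj (fun n hn c => ?_) (fun n hn c => ?_) 1)
  · exact Lev.apply_eq_zero (he.le (vee_le hn)) (by have := hB.ho; omega)
  · rw [hcon n hn]; rfl

/-- some `n ∈ v` has nonzero column `i` -/
theorem exists_col (hB : CaseB e o z i j) (A : StepTwo.Act e he CY ⊥ (vee e)) :
    ∃ n ∈ vee e, (fun a => n a i) ≠ 0 := by
  by_contra hcon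
  push Not at hcon
  refine hB.niz (single_mem_of_vee A hB.iz (fun n hn c => ?_) (fun n hn c => ?_) 1)
  · exact congrFun (hcon n hn) c
  · exact Lev.apply_eq_zero (he.le (vee_le hn)) (by have := hB.hz; have := c.2; omega)

end CaseB

end Cfsg.Agent.SylowL.StepOne
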