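import Cfsg.Agent.SylowL.StepOne.B1Vec
import Cfsg.Agent.SylowL.StepOne.Basic

/-!
# Step 1, case (1B1): the kernels of `n0`
-/

set_option autoImplicit false

namespace Cfsg.Agent.SylowL.StepOne.B1Core

open Matrix Subgroup
open Cfsg.Agent.SylowL.Lev Cfsg.Agent.SylowL.UT Cfsg.Agent.SylowL.Pat
open Cfsg.Agent.SylowL.EssDatum Cfsg.Agent.SylowL.EssUT Cfsg.Agent.SylowL.EssTwo
open Cfsg.Agent.SylowL.StepOne
open Cfsg.Agent.SylowL.StepOne.B1Vec

variable {m : ℕ} {F : Type*} [Field F]

local notation "Mat" => Matrix (Fin m) (Fin m) F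

/-- first column -/
theorem lev_col {o : Fin m} (ho : (o : ℕ) = 0) {n : Mat} (hn : n ∈ lev m F 1) : n *ᵥ ε o = 0 := by
  ext a
  rw [mulVec_ε, Lev.apply_eq_zero hn (by omega)]; rfl

/-- last row -/
theorem lev_row {z : Fin m} (hz : (z : ℕ) + 1 = m) {n : Mat} (hn : n ∈ lev m F 1) : ε z ᵥ* n = 0 := by
  ext b
  rw [ε_vecMul, Lev.apply_eq_zero hn (by have := b.2; omega)]; rfl

section

variable [CharP F 2] {e : Submodule F (Matrix (Fin m) (Fin m) F)} {he : IsAlg e}
  {CY : Subgroup (UT m F)} {o z i j : Fin m} {c : F}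

theorem hx' (hx : single o j (1 : F) + c • single i z (1 : F) ∈ e) :
    (ε o ⋄ ε j + c • (ε i ⋄ ε z) : Mat) ∈ e := by
  rwa [single_one_eq, single_one_eq] at hx

theorem vee_lev (he : IsAlg e) {n : Mat} (hn : n ∈ vee e) : n ∈ lev m F 1 := he.le (vee_le hn)

theorem main (he : IsAlg e) (hB : CaseB e o z i j) (hx : single o j (1 : F) + c • single i z (1 : F) ∈ e)
    {n : Mat} (hn : n ∈ vee e) : (c • (n *ᵥ ε i)) ⋄ ε z = ε o ⋄ (ε j ᵥ* n) := by
  have h1 := comm_vee hn (hx' hx)
  have hl := vee_lev he hn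
  rw [mul_add, add_mul, mul_vecMulVec, vecMulVec_mul, Matrix.mul_smul, Matrix.smul_mul, mul_vecMulVec,
    vecMulVec_mul, lev_col hB.ho hl, lev_row hB.hz hl, zero_vecMulVec, vecMulVec_zero, smul_zero, zero_add,
    add_zero] at h1
  rw [smul_vecMulVec]
  exact h1

theorem col_eq (he : IsAlg e) (hB : CaseB e o z i j) (hx : single o j (1 : F) + c • single i z (1 : F) ∈ e)
    {n : Mat} (hn : n ∈ vee e) : c • (n *ᵥ ε i) = n j z • ε o := by
  have h1 := vmv_col (main he hB hx hn) z
  rwa [ε_same, one_smul, ε_vecMul] at h1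

theorem row_eq (he : IsAlg e) (hB : CaseB e o z i j) (hx : single o j (1 : F) + c • single i z (1 : F) ∈ e)
    {n : Mat} (hn : n ∈ vee e) : ε j ᵥ* n = n j z • ε z := by
  have h1 := vmv_row (main he hB hx hn) o
  rw [col_eq he hB hx hn, ε_same, one_smul, Pi.smul_apply, ε_same, smul_eq_mul, mul_one] at h1
  exact h1.symm

theorem exists_n0 (A : StepTwo.Act e he CY ⊥ (vee e)) (hB : CaseB e o z i j)
    (hx : single o j (1 : F) + c • single i z (1 : F) ∈ e) : ∃ n0 ∈ vee e, n0 j z = 1 := by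
  obtain ⟨n, hn, hne⟩ := hB.exists_row A
  have h1 := row_eq he hB hx hn
  rw [ε_vecMul] at h1
  have h2 : n j z ≠ 0 := by
    intro h
    rw [h, zero_smul] at h1
    exact hne h1
  refine ⟨(n j z)⁻¹ • n, (vee e).smul_mem _ hn, ?_⟩
  rw [Matrix.smul_apply, smul_eq_mul, inv_mul_cancel₀ h2]

/-- codimension -/
theorem codim (he : IsAlg e) (hB : CaseB e o z i j)
    (hx : single o j (1 : F) + c • single i z (1 : F) ∈ e) :
    Module.finrank F (vee e) ≤ Module.finrank F (StepTwo.cen ⊥ (vee e) (single o j (1 : F))) + 1 := by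
  refine finrank_le_cen (Matrix.entryLinearMap F F j z) fun n hn h => ?_
  rw [Matrix.entryLinearMap_apply] at h
  rw [Submodule.mem_bot, single_one_eq, vecMulVec_mul, mul_vecMulVec, row_eq he hB hx hn, h, zero_smul,
    lev_col hB.ho (vee_lev he hn), vecMulVec_zero, zero_vecMulVec, sub_zero]

/-- `(P4)` in the present case. -/
theorem inv_of (A : StepTwo.Act e he CY ⊥ (vee e)) (hB : CaseB e o z i j)
    (hx : single o j (1 : F) + c • single i z (1 : F) ∈ e) {y : Mat}
    (hy : y ∈ lev m F 1) (hyy : y * y ∈ e) (hl : ∀ u ∈ e, y * u ∈ e) (hr : ∀ u ∈ e, u * y ∈ e)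
    (hxy : (ε o ⋄ ε j) * y ∈ e) (hyx : y * (ε o ⋄ ε j) ∈ e) : ∃ a : F, y - a • (ε o ⋄ ε j) ∈ e := by
  have h := exists_sub_smul_mem A (hB.inv_oj A one_ne_zero) (codim he hB hx) hy hyy hl hr
    (by rw [single_one_eq]; exact hxy) (by rw [single_one_eq]; exact hyx)
  rwa [single_one_eq] at h

/-- `Ann_c0 = F e_1` -/
theorem ann (A : StepTwo.Act e he CY ⊥ (vee e)) (hB : CaseB e o z i j)
    (hx : single o j (1 : F) + c • single i z (1 : F) ∈ e) {n0 : Mat} (hn0 : n0 ∈ vee e) (h0 : n0 j z = 1)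
    {w : Fin m → F} (hw : ∀ y ∈ e, y *ᵥ w = 0) (hwj : w j = 0) : ∃ a : F, w = a • ε o := by
  have hsu : SU w (ε j) := by
    intro a b ha hb
    have hb' : b = j := by
      by_contra h
      exact hb (ε_ne h)
    subst hb'
    by_contra hab
    rw [not_lt] at hab
    rcases hab.lt_or_eq with h | h
    · have h1 := hw _ (hB.row a h)
      rw [single_one_eq, vmv_mulVec, ε_dot] at h1
      have h2 := congrFun h1 o
      rw [Pi.smul_apply, ε_same, smul_eq_mul, mul_one] at h2
      exact ha h2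
    · rw [← h] at ha
      exact ha hwj
  obtain ⟨a, ha⟩ := inv_of A hB hx (y := w ⋄ ε j) hsu.mem_lev
    (by rw [mul_vecMulVec, vmv_mulVec, hsu.dot, zero_smul, zero_vecMulVec]; exact zero_mem _)
    (fun u hu => by
      rw [vecMulVec_mul]
      refine mem_e_of_comm A ?_ fun n hn => ?_
      · have : (w ⋄ (ε j ᵥ* u) : Mat) = (w ⋄ ε j) * u := by rw [vecMulVec_mul]
        rw [this]
        exact lev_anti (by norm_num) (mul_mem_lev hsu.mem_lev (he.le hu))
      · rw [comm_vmv_iff, hw n (vee_le hn), zero_vecMulVec, vecMul_vecMul, ← comm_vee hn hu, ← vecMul_vecMul,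
          row_eq he hB hx hn, smul_vecMul, lev_row hB.hz (he.le hu), smul_zero, vecMulVec_zero])
    (fun u hu => by
      rw [mul_vecMulVec, hw u hu, zero_vecMulVec]; exact zero_mem _)
    (by rw [mul_vecMulVec, vmv_mulVec, hsu.dot, zero_smul, zero_vecMulVec]; exact zero_mem _)
    (by rw [mul_vecMulVec, vmv_mulVec, dot_ε, ε_ne hB.oj.ne, zero_smul, zero_vecMulVec]; exact zero_mem _)
  refine ⟨a, ?_⟩
  have e1 : w ⋄ ε j - a • (ε o ⋄ ε j) = (w - a • ε o) ⋄ ε j := by
    rw [sub_vecMulVec, smul_vecMulVec]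
  rw [e1] at ha
  have h1 := comm_vmv_iff.1 (comm_vee hn0 ha)
  rw [row_eq he hB hx hn0, h0, one_smul] at h1
  have h2 := vmv_col h1 z
  rw [ε_ne hB.jz.ne', zero_smul, ε_same, one_smul] at h2
  exact (sub_eq_zero.1 h2.symm)

/-- left kernel of `n0` -/
theorem kerR (A : StepTwo.Act e he CY ⊥ (vee e)) (hB : CaseB e o z i j)
    (hx : single o j (1 : F) + c • single i z (1 : F) ∈ e) {n0 : Mat} (hn0 : n0 ∈ vee e) (h0 : n0 j z = 1)
    {l : Fin m → F} (hl : l ᵥ* n0 = 0) : ε o ⋄ l ∈ e := by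
  have key : ∀ (k : ℕ) (l : Fin m → F), (∀ a : Fin m, (a : ℕ) + k < m → l a = 0) → l ᵥ* n0 = 0 → ε o ⋄ l ∈ e := by
    intro k
    induction k with
    | zero =>
      intro l h _
      have : l = 0 := by
        ext a
        exact h a (by have := a.2; omega)
      rw [this, vecMulVec_zero]; exact zero_mem _
    | succ k ih =>
      intro l h hl
      have hstep : ∀ u ∈ e, ε o ⋄ (l ᵥ* u) ∈ e := by
        intro u hu
        refine ih _ (fun a ha => ?_) ?_
        · refine lev_vecMul (he.le hu) (k := m - (k + 1)) (fun b hb => h b (by omega)) (by omega)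
        · rw [vecMul_vecMul, ← comm_vee hn0 hu, ← vecMul_vecMul, hl, zero_vecMul]
      have hlo : l o = 0 := by
        have h1 : l ⬝ᵥ (c • (n0 *ᵥ ε i)) = 0 := by
          rw [dotProduct_smul, dotProduct_mulVec, hl, zero_dotProduct, smul_zero]
        rw [col_eq he hB hx hn0, h0, one_smul, dot_ε] at h1
        exact h1
      have hsu : SU (ε o) l := by
        intro a b ha hb
        have ha' : a = o := by
          by_contra h
          exact ha (ε_ne h)
        subst ha'
        have h2 : b ≠ a := by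
          rintro rfl
          exact hb hlo
        have h3 := hB.ho
        have h4 : (b : ℕ) ≠ a := fun h => h2 (Fin.ext h)
        rw [Fin.lt_def]; omega
      obtain ⟨a, ha⟩ := inv_of A hB hx (y := ε o ⋄ l) hsu.mem_lev
        (by rw [mul_vecMulVec, vmv_mulVec, hsu.dot, zero_smul, zero_vecMulVec]; exact zero_mem _)
        (fun u hu => by rw [vecMulVec_mul]; exact hstep u hu)
        (fun u hu => by rw [mul_vecMulVec, lev_col hB.ho (he.le hu), zero_vecMulVec]; exact zero_mem _)
        (by rw [mul_vecMulVec, vmv_mulVec, dot_ε, ε_ne hB.oj.ne, zero_smul, zero_vecMulVec]; exact zero_mem _)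
        (by rw [mul_vecMulVec, vmv_mulVec, dot_ε, hlo, zero_smul, zero_vecMulVec]; exact zero_mem _)
      have e1 : ε o ⋄ l - a • (ε o ⋄ ε j) = ε o ⋄ (l - a • ε j) := by
        rw [vecMulVec_sub, vecMulVec_smul]
      have h1 := ha
      rw [e1] at h1
      have h2 := comm_vmv_iff.1 (comm_vee hn0 h1)
      rw [lev_col hB.ho (vee_lev he hn0), zero_vecMulVec, sub_vecMul, hl, smul_vecMul, row_eq he hB hx hn0, h0,
        one_smul, zero_sub] at h2
      have h3 := vmv_eq_zero_right h2.symm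
      have h4 := congrFun h3 z
      rw [Pi.neg_apply, Pi.smul_apply, ε_same, smul_eq_mul, mul_one, Pi.zero_apply, neg_eq_zero] at h4
      rw [h4, zero_smul, sub_zero] at ha
      exact ha
  exact key m l (fun a ha => absurd ha (by omega)) hl

/-- right kernel of `n0` -/
theorem kerC (A : StepTwo.Act e he CY ⊥ (vee e)) (hB : CaseB e o z i j)
    (hx : single o j (1 : F) + c • single i z (1 : F) ∈ e) {n0 : Mat} (hn0 : n0 ∈ vee e) (h0 : n0 j z = 1)
    {w : Fin m → F} (hw : n0 *ᵥ w = 0) : w ⋄ ε z ∈ e := by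
  have key : ∀ (k : ℕ) (w : Fin m → F), (∀ a : Fin m, k ≤ (a : ℕ) → w a = 0) → n0 *ᵥ w = 0 → w ⋄ ε z ∈ e := by
    intro k
    induction k with
    | zero =>
      intro w h _
      have : w = 0 := by
        ext a
        exact h a (Nat.zero_le _)
      rw [this, zero_vecMulVec]; exact zero_mem _
    | succ k ih =>
      intro w h hw
      have hstep : ∀ u ∈ e, (u *ᵥ w) ⋄ ε z ∈ e := by
        intro u hu
        refine ih _ (fun a ha => ?_) ?_
        · exact lev_mulVec (he.le hu) (k := k + 1) (fun b hb => h b (by omega)) (by omega)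
        · rw [mulVec_mulVec, comm_vee hn0 hu, ← mulVec_mulVec, hw, mulVec_zero]
      have hwz : w z = 0 := by
        have h1 : ε j ⬝ᵥ (n0 *ᵥ w) = 0 := by rw [hw, dotProduct_zero]
        rwa [dotProduct_mulVec, row_eq he hB hx hn0, h0, one_smul, ε_dot] at h1
      have hsu : SU w (ε z) := by
        intro a b ha hb
        have hb' : b = z := by
          by_contra h
          exact hb (ε_ne h)
        subst hb'
        have h2 : a ≠ b := by
          rintro rfl
          exact ha hwz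
        have h3 := hB.hz
        have h4 : (a : ℕ) ≠ b := fun h => h2 (Fin.ext h)
        have := a.2
        rw [Fin.lt_def]; omega
      obtain ⟨a, ha⟩ := inv_of A hB hx (y := w ⋄ ε z) hsu.mem_lev
        (by rw [mul_vecMulVec, vmv_mulVec, hsu.dot, zero_smul, zero_vecMulVec]; exact zero_mem _)
        (fun u hu => by rw [vecMulVec_mul, lev_row hB.hz (he.le hu), vecMulVec_zero]; exact zero_mem _)
        (fun u hu => by rw [mul_vecMulVec]; exact hstep u hu)
        (by
          rw [mul_vecMulVec, vmv_mulVec, ε_dot, smul_vecMulVec, ← single_one_eq]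
          exact Submodule.smul_mem _ _ (hB.row z hB.jz))
        (by
          rw [mul_vecMulVec, vmv_mulVec, ε_dot, ε_ne (hB.oj.trans hB.jz).ne', zero_smul, zero_vecMulVec]
          exact zero_mem _)
      have h1 := add_mem ha (e.smul_mem a (hx' hx))
      have e1 : w ⋄ ε z - a • (ε o ⋄ ε j) + a • (ε o ⋄ ε j + c • (ε i ⋄ ε z)) = (w + a • (c • ε i)) ⋄ ε z := by
        rw [add_vecMulVec, smul_vecMulVec, smul_vecMulVec, smul_add]
        abel
      rw [e1] at h1
      have h2 := comm_vmv_iff.1 (comm_vee hn0 h1)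
      rw [lev_row hB.hz (vee_lev he hn0), vecMulVec_zero, mulVec_add, hw, zero_add, mulVec_smul, mulVec_smul,
        col_eq he hB hx hn0, h0, one_smul] at h2
      have h3 := vmv_eq_zero_left h2
      have h4 := congrFun h3 o
      rw [Pi.smul_apply, ε_same, smul_eq_mul, mul_one, Pi.zero_apply] at h4
      rw [h4, zero_smul, sub_zero] at ha
      exact ha
  exact key m w (fun a ha => absurd ha (by omega)) hw

theorem memR (he : IsAlg e) (hB : CaseB e o z i j) {n0 : Mat} (hn0 : n0 ∈ vee e)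
    {l : Fin m → F} (h : ε o ⋄ l ∈ e) : l ᵥ* n0 = 0 := by
  have h1 := comm_vmv_iff.1 (comm_vee hn0 h)
  rw [lev_col hB.ho (vee_lev he hn0), zero_vecMulVec] at h1
  exact vmv_eq_zero_right h1.symm

theorem memC (he : IsAlg e) (hB : CaseB e o z i j) {n0 : Mat} (hn0 : n0 ∈ vee e)
    {w : Fin m → F} (h : w ⋄ ε z ∈ e) : n0 *ᵥ w = 0 := by
  have h1 := comm_vmv_iff.1 (comm_vee hn0 h)
  rw [lev_row hB.hz (vee_lev he hn0), vecMulVec_zero] at h1
  exact vmv_eq_zero_left h1

end

end Cfsg.Agent.SylowL.StepOne.B1Core
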