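import Cfsg.Agent.SylowL.EssUT
import Cfsg.Agent.SylowL.StepTwo.Basic

/-!
# Step 1, case (1B1): vectors and rank one matrices
-/

set_option autoImplicit false

namespace Cfsg.Agent.SylowL.StepOne.B1Vec

open Matrix Subgroup
open Cfsg.Agent.SylowL.Lev Cfsg.Agent.SylowL.UT Cfsg.Agent.SylowL.Pat Cfsg.Agent.SylowL.EssDatum
open Cfsg.Agent.SylowL.EssUT

variable {m : ℕ} {F : Type*} [Field F]

local notation "Mat" => Matrix (Fin m) (Fin m) F

/-- basis vector -/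
def ε (a : Fin m) : Fin m → F := Pi.single a 1

@[inherit_doc] scoped infixl:72 " ⋄ " => Matrix.vecMulVec

theorem ε_same (a : Fin m) : (ε a : Fin m → F) a = 1 := by simp [ε]

theorem ε_ne {a b : Fin m} (h : b ≠ a) : (ε a : Fin m → F) b = 0 := by simp [ε, h]

theorem ε_apply (a b : Fin m) : (ε a : Fin m → F) b = if b = a then 1 else 0 := by
  rw [ε, Pi.single_apply]

theorem dot_ε (w : Fin m → F) (a : Fin m) : w ⬝ᵥ ε a = w a := dotProduct_single_one w a

theorem ε_dot (w : Fin m → F) (a : Fin m) : ε a ⬝ᵥ w = w a := single_one_dotProduct a w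

theorem mulVec_ε (n : Mat) (a b : Fin m) : (n *ᵥ ε a) b = n b a := by
  rw [ε, mulVec_single_one]; rfl

theorem ε_vecMul (n : Mat) (a : Fin m) : ε a ᵥ* n = n a := by
  rw [ε, single_one_vecMul]; rfl

theorem ε_ne_zero (a : Fin m) : (ε a : Fin m → F) ≠ 0 := by
  intro h
  have := congrFun h a
  rw [ε_same] at this
  exact one_ne_zero this

theorem single_eq (a b : Fin m) (c : F) : (single a b c : Mat) = c • (ε a ⋄ ε b) := by
  ext x y
  rw [Matrix.smul_apply, vecMulVec_apply, single_apply, ε_apply, ε_apply]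
  by_cases h1 : a = x <;> by_cases h2 : b = y <;> simp [h1, h2, eq_comm]

theorem single_one_eq (a b : Fin m) : (single a b (1 : F) : Mat) = ε a ⋄ ε b := by
  rw [single_eq, one_smul]

theorem vmv_mulVec (w l u : Fin m → F) : (w ⋄ l) *ᵥ u = (l ⬝ᵥ u) • w := by
  rw [vecMulVec_mulVec]
  ext a
  simp [mul_comm]

theorem vecMul_vmv (u w l : Fin m → F) : u ᵥ* (w ⋄ l) = (u ⬝ᵥ w) • l := vecMul_vecMulVec _ _ _

/-- `w ⊗ l = w' ⊗ l'` with `l b = 1`, `l' b = c`. -/
theorem vmv_col {w l w' l' : Fin m → F} (h : w ⋄ l = w' ⋄ l') (b : Fin m) : l b • w = l' b • w' := by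
  ext a
  have := congrFun (congrFun h a) b
  rw [vecMulVec_apply, vecMulVec_apply] at this
  rw [Pi.smul_apply, Pi.smul_apply, smul_eq_mul, smul_eq_mul, mul_comm, this, mul_comm]

theorem vmv_row {w l w' l' : Fin m → F} (h : w ⋄ l = w' ⋄ l') (a : Fin m) : w a • l = w' a • l' := by
  ext b
  have := congrFun (congrFun h a) b
  rw [vecMulVec_apply, vecMulVec_apply] at this
  rw [Pi.smul_apply, Pi.smul_apply, smul_eq_mul, smul_eq_mul, this]

theorem vmv_ε_inj {w w' : Fin m → F} {b : Fin m} (h : w ⋄ ε b = w' ⋄ ε b) : w = w' := by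
  have := vmv_col h b
  rwa [ε_same, one_smul, one_smul] at this

theorem ε_vmv_inj {l l' : Fin m → F} {a : Fin m} (h : ε a ⋄ l = ε a ⋄ l') : l = l' := by
  have := vmv_row h a
  rwa [ε_same, one_smul, one_smul] at this

theorem vmv_eq_zero_left {w : Fin m → F} {b : Fin m} (h : w ⋄ ε b = 0) : w = 0 := by
  rw [← zero_vecMulVec (ε b : Fin m → F)] at h
  exact vmv_ε_inj h

theorem vmv_eq_zero_right {l : Fin m → F} {a : Fin m} (h : ε a ⋄ l = 0) : l = 0 := by
  rw [← vecMulVec_zero (ε a : Fin m → F)] at h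
  exact ε_vmv_inj h

/-- commutation with a rank one matrix -/
theorem comm_vmv_iff {n : Mat} {w l : Fin m → F} :
    n * (w ⋄ l) = (w ⋄ l) * n ↔ (n *ᵥ w) ⋄ l = w ⋄ (l ᵥ* n) := by
  rw [mul_vecMulVec, vecMulVec_mul]

theorem sum_eq (w : Fin m → F) : w = ∑ a, w a • (ε a : Fin m → F) := by
  ext b
  rw [Finset.sum_apply, Finset.sum_eq_single b]
  · rw [Pi.smul_apply, ε_same, smul_eq_mul, mul_one]
  · intro c _ hc
    rw [Pi.smul_apply, ε_ne hc.symm, smul_zero]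
  · intro h; exact absurd (Finset.mem_univ b) h

theorem mulVec_eq_sum (n : Mat) (w : Fin m → F) : n *ᵥ w = ∑ a, w a • (n *ᵥ ε a) := by
  conv_lhs => rw [sum_eq w]
  rw [Matrix.mulVec_sum]
  refine Finset.sum_congr rfl fun a _ => ?_
  rw [Matrix.mulVec_smul]

theorem lev_mulVec {x : Mat} (hx : x ∈ lev m F 1) {w : Fin m → F} {k : ℕ}
    (h : ∀ a : Fin m, k < (a : ℕ) + 1 → w a = 0) {b : Fin m} (hb : k < (b : ℕ) + 2) : (x *ᵥ w) b = 0 := by
  rw [mulVec_eq_sum, Finset.sum_apply]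
  refine Finset.sum_eq_zero fun a _ => ?_
  rw [Pi.smul_apply, smul_eq_mul, mulVec_ε]
  by_cases h1 : k < (a : ℕ) + 1
  · rw [h a h1, zero_mul]
  · rw [Lev.apply_eq_zero hx (by omega), mul_zero]

theorem lev_vecMul {x : Mat} (hx : x ∈ lev m F 1) {l : Fin m → F} {k : ℕ}
    (h : ∀ a : Fin m, (a : ℕ) < k → l a = 0) {b : Fin m} (hb : (b : ℕ) < k + 1) : (l ᵥ* x) b = 0 := by
  rw [vecMul, dotProduct]
  refine Finset.sum_eq_zero fun a _ => ?_
  by_cases h1 : (a : ℕ) < k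
  · rw [h a h1, zero_mul]
  · rw [Lev.apply_eq_zero hx (by omega), mul_zero]

/-- A linear functional on vectors is a dot product. -/
theorem exists_dot (f : (Fin m → F) →ₗ[F] F) : ∃ u : Fin m → F, ∀ w, f w = u ⬝ᵥ w := by
  refine ⟨fun a => f (ε a), fun w => ?_⟩
  conv_lhs => rw [sum_eq w]
  rw [map_sum, dotProduct]
  refine Finset.sum_congr rfl fun a _ => ?_
  rw [map_smul, smul_eq_mul, mul_comm]

/-- Double annihilator. -/
theorem mem_of_ann {M : Submodule F (Fin m → F)} {w : Fin m → F}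
    (h : ∀ l : Fin m → F, (∀ u ∈ M, l ⬝ᵥ u = 0) → l ⬝ᵥ w = 0) : w ∈ M := by
  by_contra hw
  obtain ⟨f, hf, hM⟩ := Submodule.exists_le_ker_of_notMem hw
  obtain ⟨u, hu⟩ := exists_dot f
  apply hf
  rw [hu]
  refine h u fun v hv => ?_
  rw [← hu]
  exact LinearMap.mem_ker.1 (hM hv)

/-- `w` is in the image of `n` iff it is killed by all `l` with `l n = 0`. -/
theorem exists_mulVec_eq {n : Mat} {w : Fin m → F}
    (h : ∀ l : Fin m → F, l ᵥ* n = 0 → l ⬝ᵥ w = 0) : ∃ u, n *ᵥ u = w := by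
  have : w ∈ LinearMap.range n.mulVecLin := by
    refine mem_of_ann fun l hl => h l ?_
    ext b
    have := hl (n *ᵥ ε b) ⟨ε b, rfl⟩
    rw [dotProduct_mulVec, dot_ε] at this
    rw [this]; rfl
  obtain ⟨u, hu⟩ := this
  exact ⟨u, hu⟩

/-- functional on pairs -/
theorem exists_pair {P : Submodule F ((Fin m → F) × (Fin m → F))} {x : (Fin m → F) × (Fin m → F)}
    (hx : x ∉ P) : ∃ w l : Fin m → F, (∀ p ∈ P, p.1 ⬝ᵥ w + l ⬝ᵥ p.2 = 0) ∧ x.1 ⬝ᵥ w + l ⬝ᵥ x.2 ≠ 0 := by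
  obtain ⟨f, hf, hM⟩ := Submodule.exists_le_ker_of_notMem hx
  obtain ⟨w, hw⟩ := exists_dot (f.comp (LinearMap.inl F _ _))
  obtain ⟨l, hl⟩ := exists_dot (f.comp (LinearMap.inr F _ _))
  have key : ∀ p : (Fin m → F) × (Fin m → F), f p = p.1 ⬝ᵥ w + l ⬝ᵥ p.2 := by
    rintro ⟨a, b⟩
    have h1 : ((a, b) : (Fin m → F) × (Fin m → F)) = (a, 0) + (0, b) := by simp
    rw [h1, map_add]
    have h2 := hw a
    have h3 := hl b
    rw [LinearMap.comp_apply, LinearMap.inl_apply] at h2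
    rw [LinearMap.comp_apply, LinearMap.inr_apply] at h3
    rw [h2, h3, dotProduct_comm w a]
    simp
  refine ⟨w, l, fun p hp => ?_, ?_⟩
  · rw [← key]; exact LinearMap.mem_ker.1 (hM hp)
  · rw [← key]; exact hf

end Cfsg.Agent.SylowL.StepOne.B1Vec
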