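import Cfsg.Agent.SylowL.StepOne.Basic

/-!
# Step 1, case (1B): the elements `g_w h_l`

`w` runs over the column vectors killed by `e` with `w_j = 0`, `l` over the row vectors killed by `e`
with `l_i = 0`; `t = g_w h_l`, `g_w = 1 + w ⊗ e_j`, `h_l = 1 + e_i ⊗ l` acts on `v` as
`n ↦ n + w ⊗ ρ_j(n) + c_i(n) ⊗ l + n_ji w ⊗ l`.
-/

set_option autoImplicit false

namespace Cfsg.Agent.SylowL.StepOne.B2Base

open Matrix Subgroup
open Cfsg.Agent.SylowL.Lev Cfsg.Agent.SylowL.UT Cfsg.Agent.SylowL.Pat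
open Cfsg.Agent.SylowL.EssDatum Cfsg.Agent.SylowL.EssUT Cfsg.Agent.SylowL.EssTwo
open Cfsg.Agent.SylowL.StepOne

variable {m : ℕ} {F : Type*} [Field F]

local notation "Mat" => Matrix (Fin m) (Fin m) F

/-! ### Generalities on conjugation -/

theorem cj_comp (s t : UT m F) (n : Mat) : cj (s * t) n = cj s (cj t n) := by
  rw [cj_apply, cj_apply, cj_apply]
  have h1 : (((s * t : UT m F) : Matˣ) : Mat) = ((s : Matˣ) : Mat) * ((t : Matˣ) : Mat) := rfl
  have h2 : ((((s * t : UT m F) : Matˣ)⁻¹ : Matˣ) : Mat)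
      = (((t : Matˣ)⁻¹ : Matˣ) : Mat) * (((s : Matˣ)⁻¹ : Matˣ) : Mat) := by
    have h3 : ((s * t : UT m F) : Matˣ) = (s : Matˣ) * (t : Matˣ) := rfl
    rw [h3, _root_.mul_inv_rev, Units.val_mul]
  rw [h1, h2]
  noncomm_ring

theorem cj_one (n : Mat) : cj (1 : UT m F) n = n := by
  rw [cj_apply]
  have h1 : ((1 : UT m F) : Matˣ) = 1 := rfl
  rw [h1, inv_one, Units.val_one, one_mul, mul_one]

/-- Conjugation by a rank one element. -/
theorem cj_tv {w l : Fin m → F} (h : SU w l) {n : Mat} (hn : n ∈ lev m F 1) :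
    cj (tv w l h) n = n + vecMulVec w (l ᵥ* n) - vecMulVec (n *ᵥ w) l - ((l ᵥ* n) ⬝ᵥ w) • vecMulVec w l := by
  have h1 := N_conj_tv w l h (mk n hn)
  rwa [N_conj', N_mk] at h1

/-! ### The vectors -/

/-- column vectors killed by `e` with zero entry `j` -/
def Ac (e : Submodule F Mat) (j : Fin m) : Submodule F (Fin m → F) where
  carrier := {w | (∀ x ∈ e, x *ᵥ w = 0) ∧ w j = 0}
  add_mem' := by
    rintro a b ⟨ha, ha'⟩ ⟨hb, hb'⟩
    refine ⟨fun x hx => ?_, ?_⟩
    · rw [mulVec_add, ha x hx, hb x hx, add_zero]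
    · rw [Pi.add_apply, ha', hb', add_zero]
  zero_mem' := ⟨fun x _ => mulVec_zero x, rfl⟩
  smul_mem' := by
    rintro c a ⟨ha, ha'⟩
    refine ⟨fun x hx => ?_, ?_⟩
    · rw [mulVec_smul, ha x hx, smul_zero]
    · rw [Pi.smul_apply, ha', smul_zero]

/-- row vectors killed by `e` with zero entry `i` -/
def Ar (e : Submodule F Mat) (i : Fin m) : Submodule F (Fin m → F) where
  carrier := {l | (∀ x ∈ e, l ᵥ* x = 0) ∧ l i = 0}
  add_mem' := by
    rintro a b ⟨ha, ha'⟩ ⟨hb, hb'⟩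
    refine ⟨fun x hx => ?_, ?_⟩
    · rw [add_vecMul, ha x hx, hb x hx, add_zero]
    · rw [Pi.add_apply, ha', hb', add_zero]
  zero_mem' := ⟨fun x _ => zero_vecMul x, rfl⟩
  smul_mem' := by
    rintro c a ⟨ha, ha'⟩
    refine ⟨fun x hx => ?_, ?_⟩
    · rw [smul_vecMul, ha x hx, smul_zero]
    · rw [Pi.smul_apply, ha', smul_zero]

theorem mem_Ac {e : Submodule F Mat} {j : Fin m} {w : Fin m → F} :
    w ∈ Ac e j ↔ (∀ x ∈ e, x *ᵥ w = 0) ∧ w j = 0 := Iff.rfl

theorem mem_Ar {e : Submodule F Mat} {i : Fin m} {l : Fin m → F} :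
    l ∈ Ar e i ↔ (∀ x ∈ e, l ᵥ* x = 0) ∧ l i = 0 := Iff.rfl

section

variable {e : Submodule F (Matrix (Fin m) (Fin m) F)} {CY : Subgroup (UT m F)} {o z i j : Fin m}

theorem supp_c (hB : CaseB e o z i j) {w : Fin m → F} (hw : ∀ x ∈ e, x *ᵥ w = 0) {b : Fin m} (hb : j < b) :
    w b = 0 := by
  have h := congrFun (hw _ (hB.row b hb)) o
  have h1 : (single o b (1 : F) *ᵥ w) o = w b := by
    rw [mulVec, dotProduct, Finset.sum_eq_single b]
    · simp
    · intro c _ hc
      rw [Matrix.single_apply_of_col_ne _ _ hc.symm, zero_mul]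
    · intro h; exact absurd (Finset.mem_univ _) h
  rw [h1] at h
  exact h

theorem supp_r (hB : CaseB e o z i j) {l : Fin m → F} (hl : ∀ x ∈ e, l ᵥ* x = 0) {a : Fin m} (ha : a < i) :
    l a = 0 := by
  have h := congrFun (hl _ (hB.col a ha)) z
  have h1 : (l ᵥ* single a z (1 : F)) z = l a := by
    rw [vecMul, dotProduct, Finset.sum_eq_single a]
    · simp
    · intro c _ hc
      rw [Matrix.single_apply_of_row_ne hc.symm, mul_zero]
    · intro h; exact absurd (Finset.mem_univ _) h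
  rw [h1] at h
  exact h

theorem su_w (hB : CaseB e o z i j) {w : Fin m → F} (hw : w ∈ Ac e j) : SU w (Pi.single j 1) := by
  intro a b ha hb
  have h2 : b = j := by
    by_contra h2
    exact hb (Pi.single_eq_of_ne h2 _)
  subst h2
  rcases lt_trichotomy a b with h | h | h
  · exact h
  · rw [h] at ha; exact absurd hw.2 ha
  · exact absurd (supp_c hB hw.1 h) ha

theorem su_l (hB : CaseB e o z i j) {l : Fin m → F} (hl : l ∈ Ar e i) : SU (Pi.single i (1 : F)) l := by
  intro a b ha hb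
  have h2 : a = i := by
    by_contra h2
    exact ha (Pi.single_eq_of_ne h2 _)
  subst h2
  rcases lt_trichotomy a b with h | h | h
  · exact h
  · rw [← h] at hb; exact absurd hl.2 hb
  · exact absurd (supp_r hB hl.1 h) hb

/-- `g_w h_l` -/
def tt (hB : CaseB e o z i j) (w : Ac e j) (l : Ar e i) : UT m F :=
  tv w.1 (Pi.single j 1) (su_w hB w.2) * tv (Pi.single i 1) l.1 (su_l hB l.2)

/-- the action of `g_w h_l` on `v` -/
def ph (i j : Fin m) (w l : Fin m → F) (n : Mat) : Mat :=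
  n + vecMulVec w (n j) + vecMulVec (fun a => n a i) l + n j i • vecMulVec w l

variable [CharP F 2] {he : IsAlg e}

theorem mulVec_eq_zero {w : Fin m → F} (hw : w ∈ Ac e j) {n : Mat} (hn : n ∈ vee e) : n *ᵥ w = 0 :=
  hw.1 n (vee_le hn)

theorem vecMul_eq_zero {l : Fin m → F} (hl : l ∈ Ar e i) {n : Mat} (hn : n ∈ vee e) : l ᵥ* n = 0 :=
  hl.1 n (vee_le hn)

/-- rank one elements of `v` -/
theorem vmv_mem (A : StepTwo.Act e he CY ⊥ (vee e)) {w l : Fin m → F} (hw : ∀ x ∈ e, x *ᵥ w = 0)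
    (hl : ∀ x ∈ e, l ᵥ* x = 0) (hs : SU w l) : vecMulVec w l ∈ vee e := by
  have h1 : ∀ x ∈ e, vecMulVec w l * x = 0 := by
    intro x hx
    rw [vecMulVec_mul, hl x hx, vecMulVec_zero]
  have h2 : ∀ x ∈ e, x * vecMulVec w l = 0 := by
    intro x hx
    rw [mul_vecMulVec, hw x hx, zero_vecMulVec]
  rw [mem_vee]
  refine ⟨mem_e_of_comm A hs.mem_lev fun n hn => ?_, ?_, fun x hx => ?_⟩
  · rw [h1 n (vee_le hn), h2 n (vee_le hn)]
  · rw [vmv_mul_vmv, hs.dot, zero_smul]
  · rw [h1 x hx, h2 x hx]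

omit [CharP F 2] in
theorem su_wn (hB : CaseB e o z i j) {w : Fin m → F} (hw : w ∈ Ac e j) {n : Mat} (hn : n ∈ lev m F 1) :
    SU w (n j) := by
  intro a b ha hb
  have h1 := su_w hB hw a j ha (by rw [Pi.single_eq_same]; exact one_ne_zero)
  have h2 := hn j b hb
  rw [Fin.lt_def] at h1 ⊢
  omega

omit [CharP F 2] in
theorem su_nl (hB : CaseB e o z i j) {l : Fin m → F} (hl : l ∈ Ar e i) {n : Mat} (hn : n ∈ lev m F 1) :
    SU (fun a => n a i) l := by
  intro a b ha hb
  have h1 := su_l hB hl i b (by rw [Pi.single_eq_same]; exact one_ne_zero) hb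
  have h2 := hn a i ha
  rw [Fin.lt_def] at h1 ⊢
  omega

theorem cj_g (hB : CaseB e o z i j) (he : IsAlg e) {w : Fin m → F} (hw : w ∈ Ac e j) {n : Mat} (hn : n ∈ vee e) :
    cj (tv w (Pi.single j 1) (su_w hB hw)) n = n + vecMulVec w (n j) := by
  rw [cj_tv _ (he.le (vee_le hn)), mulVec_eq_zero hw hn, zero_vecMulVec, sub_zero]
  have h1 : (Pi.single j (1 : F) : Fin m → F) ᵥ* n = n j := by rw [single_one_vecMul]; rfl
  have h2 : (n j) ⬝ᵥ w = 0 := congrFun (mulVec_eq_zero hw hn) j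
  rw [h1, h2, zero_smul, sub_zero]

theorem cj_h (hB : CaseB e o z i j) (he : IsAlg e) {l : Fin m → F} (hl : l ∈ Ar e i) {n : Mat} (hn : n ∈ vee e) :
    cj (tv (Pi.single i 1) l (su_l hB hl)) n = n + vecMulVec (fun a => n a i) l := by
  rw [cj_tv _ (he.le (vee_le hn)), vecMul_eq_zero hl hn, vecMulVec_zero, add_zero, zero_dotProduct, zero_smul,
    sub_zero, mulVec_single_one, sub_eq_add_neg]
  congr 1
  rw [neg_eq_iff_add_eq_zero]
  exact mat_add_self _

theorem g_mem (hB : CaseB e o z i j) (A : StepTwo.Act e he CY ⊥ (vee e)) {w : Fin m → F} (hw : w ∈ Ac e j)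
    {n : Mat} (hn : n ∈ vee e) : n + vecMulVec w (n j) ∈ vee e :=
  add_mem hn (vmv_mem A hw.1 (fun _ hx => hB.row_mul he hn hx) (su_wn hB hw (he.le (vee_le hn))))

theorem h_mem (hB : CaseB e o z i j) (A : StepTwo.Act e he CY ⊥ (vee e)) {l : Fin m → F} (hl : l ∈ Ar e i)
    {n : Mat} (hn : n ∈ vee e) : n + vecMulVec (fun a => n a i) l ∈ vee e :=
  add_mem hn (vmv_mem A (fun _ hx => hB.mul_col he hn hx) hl.1 (su_nl hB hl (he.le (vee_le hn))))

theorem cj_tt (hB : CaseB e o z i j) (A : StepTwo.Act e he CY ⊥ (vee e)) (w : Ac e j) (l : Ar e i) {n : Mat}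
    (hn : n ∈ vee e) : cj (tt hB w l) n = ph i j w l n := by
  rw [tt, cj_comp, cj_h hB he l.2 hn, cj_g hB he w.2 (h_mem hB A l.2 hn), ph]
  have h1 : (n + vecMulVec (fun a => n a i) l.1) j = n j + n j i • l.1 := by
    ext b
    rw [Matrix.add_apply, vecMulVec_apply, Pi.add_apply, Pi.smul_apply, smul_eq_mul]
  rw [h1, vecMulVec_add, vecMulVec_smul]
  abel

theorem ph_mem (hB : CaseB e o z i j) (A : StepTwo.Act e he CY ⊥ (vee e)) (w : Ac e j) (l : Ar e i) {n : Mat}
    (hn : n ∈ vee e) : ph i j w l n ∈ vee e := by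
  rw [← cj_tt hB A w l hn, tt, cj_comp, cj_h hB he l.2 hn, cj_g hB he w.2 (h_mem hB A l.2 hn)]
  exact g_mem hB A w.2 (h_mem hB A l.2 hn)

omit [CharP F 2] in
theorem ph_ph (w w' : Ac e j) (l l' : Ar e i) (n : Mat) :
    ph i j w' l' (ph i j w l n) = ph i j (w + w' : Ac e j) (l + l' : Ar e i) n := by
  have hw := w.2.2
  have hl := l.2.2
  have h1 : (ph i j w l n) j = n j + n j i • l.1 := by
    ext b
    simp only [ph, Matrix.add_apply, vecMulVec_apply, Pi.add_apply, Pi.smul_apply, smul_eq_mul, Matrix.smul_apply]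
    rw [hw]; ring
  have h2 : (fun a => ph i j w l n a i) = (fun a => n a i) + n j i • w.1 := by
    ext a
    simp only [ph, Matrix.add_apply, vecMulVec_apply, Pi.add_apply, Pi.smul_apply, smul_eq_mul, Matrix.smul_apply]
    rw [hl]; ring
  have h3 : ph i j w l n j i = n j i := by
    simp only [ph, Matrix.add_apply, vecMulVec_apply, smul_eq_mul, Matrix.smul_apply]
    rw [hl, hw]; ring
  rw [ph, h3, h1, h2, ph, ph]
  have h4 : ((w + w' : Ac e j) : Fin m → F) = w.1 + w'.1 := rfl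
  have h5 : ((l + l' : Ar e i) : Fin m → F) = l.1 + l'.1 := rfl
  rw [h4, h5]
  simp only [vecMulVec_add, add_vecMulVec, vecMulVec_smul, smul_vecMulVec, smul_add]
  abel

omit [CharP F 2] in
theorem ph_zero (n : Mat) : ph i j (0 : Ac e j) (0 : Ar e i) n = n := by
  have h1 : ((0 : Ac e j) : Fin m → F) = 0 := rfl
  have h2 : ((0 : Ar e i) : Fin m → F) = 0 := rfl
  rw [ph, h1, h2]
  simp

/-- `E = C_S(v)` -/
theorem mem_E_iff (A : StepTwo.Act e he CY ⊥ (vee e)) {t : UT m F} :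
    t ∈ ofAlg e he ↔ ∀ n ∈ vee e, cj t n = n := by
  rw [mem_ofAlg]
  have h1 : ∀ n : Mat, cj t n = n ↔ N t * n = n * N t := by
    intro n
    have h2 := cj_sub_mem_iff (isIdeal_bot (m := m) (F := F)) (t := t) (n := n)
    rw [Submodule.mem_bot, Submodule.mem_bot, sub_eq_zero, sub_eq_zero] at h2
    exact h2
  constructor
  · intro h n hn
    rw [h1]
    exact (comm_vee hn h).symm
  · intro h
    exact mem_e_of_comm A (N_mem t) fun n hn => ((h1 n).1 (h n hn)).symm

/-- Elements acting on `v` as involutions. -/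
theorem mem_normalizer_of_cj (A : StepTwo.Act e he CY ⊥ (vee e)) {t : UT m F}
    (h1 : ∀ n ∈ vee e, cj t n ∈ vee e) (h2 : ∀ n ∈ vee e, cj t (cj t n) = n) :
    t ∈ normalizer ((ofAlg e he : Subgroup (UT m F)) : Set (UT m F)) ∧ t * t ∈ ofAlg e he := by
  have h3 : ∀ n ∈ vee e, cj t⁻¹ n = cj t n := by
    intro n hn
    have := cj_inv_cj t (cj t n)
    rwa [h2 n hn] at this
  refine ⟨mem_normalizer_of ?_ ?_, ?_⟩
  · intro s hs
    rw [mem_E_iff A] at hs ⊢
    intro n hn
    rw [cj_comp, cj_comp, h3 n hn, hs _ (h1 n hn), h2 n hn]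
  · intro s hs
    rw [mem_E_iff A] at hs ⊢
    intro n hn
    rw [cj_comp, cj_comp, hs _ (h1 n hn), h3 _ (h1 n hn), h2 n hn]
  · rw [mem_E_iff A]
    intro n hn
    rw [cj_comp, h2 n hn]

theorem tt_mem (hB : CaseB e o z i j) (A : StepTwo.Act e he CY ⊥ (vee e)) (w : Ac e j) (l : Ar e i) :
    tt hB w l ∈ normalizer ((ofAlg e he : Subgroup (UT m F)) : Set (UT m F)) ∧
      tt hB w l * tt hB w l ∈ ofAlg e he := by
  refine mem_normalizer_of_cj A (fun n hn => ?_) fun n hn => ?_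
  · rw [cj_tt hB A w l hn]
    exact ph_mem hB A w l hn
  · rw [cj_tt hB A w l hn, cj_tt hB A w l (ph_mem hB A w l hn), ph_ph]
    have h1 : w + w = 0 := by
      apply Subtype.ext
      ext a
      exact CharTwo.add_self_eq_zero _
    have h2 : l + l = 0 := by
      apply Subtype.ext
      ext a
      exact CharTwo.add_self_eq_zero _
    rw [h1, h2, ph_zero]

theorem isInv_tt (hB : CaseB e o z i j) (A : StepTwo.Act e he CY ⊥ (vee e)) (w : Ac e j) (l : Ar e i)
    (h : tt hB w l ∉ ofAlg e he) : IsInv (ofAlg e he) (tt hB w l) :=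
  ⟨(tt_mem hB A w l).1, (tt_mem hB A w l).2, h⟩

/-! ### Fixed points -/

theorem ph_eq_iff {w l : Fin m → F} (hw : w ≠ 0) (hl : l ≠ 0) (hwj : w j = 0) (n : Mat) :
    ph i j w l n = n ↔ ∃ c : F, n j = c • l ∧ (fun a => n a i) = c • w := by
  constructor
  · intro h
    have h1 : ∀ a b, w a * n j b + n a i * l b + n j i * (w a * l b) = 0 := by
      intro a b
      have h2 := congrFun (congrFun h a) b
      simp only [ph, Matrix.add_apply, vecMulVec_apply, smul_eq_mul, Matrix.smul_apply] at h2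
      linear_combination h2
    obtain ⟨b0, hb0⟩ : ∃ b, l b ≠ 0 := by
      by_contra hcon
      push Not at hcon
      exact hl (funext hcon)
    obtain ⟨a0, ha0⟩ : ∃ a, w a ≠ 0 := by
      by_contra hcon
      push Not at hcon
      exact hw (funext hcon)
    set c : F := -(n j b0 + n j i * l b0) / l b0 with hc
    have hcl : c * l b0 = -(n j b0 + n j i * l b0) := by
      rw [hc, div_mul_cancel₀ _ hb0]
    have h3 : ∀ a, n a i = c * w a := by
      intro a
      apply mul_right_cancel₀ hb0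
      linear_combination h1 a b0 - w a * hcl
    have h4 : n j i = 0 := by rw [h3, hwj, mul_zero]
    refine ⟨c, ?_, ?_⟩
    · ext b
      rw [Pi.smul_apply, smul_eq_mul]
      apply mul_left_cancel₀ ha0
      have h5 := h1 a0 b
      rw [h4, zero_mul, add_zero, h3] at h5
      have h6 : w a0 * n j b + w a0 * (c * l b) = 0 := by linear_combination h5
      exact CharTwo.add_eq_zero.1 h6
    · ext a
      rw [Pi.smul_apply, smul_eq_mul]
      exact h3 a
  · rintro ⟨c, h1, h2⟩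
    have h3 : ∀ a, n a i = c * w a := fun a => congrFun h2 a
    have h4 : n j i = 0 := by rw [h3, hwj, mul_zero]
    have h5 : ∀ b, n j b = c * l b := fun b => congrFun h1 b
    ext a b
    simp only [ph, Matrix.add_apply, vecMulVec_apply, smul_eq_mul, Matrix.smul_apply]
    rw [h4, h3, h5, zero_mul, add_zero]
    have h6 : w a * (c * l b) + c * w a * l b = 0 := by
      have h7 : w a * (c * l b) = c * w a * l b := by ring
      rw [h7]
      exact CharTwo.add_self_eq_zero _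
    linear_combination h6

omit [CharP F 2] in
theorem ph_eq_iff_left {w : Fin m → F} (hw : w ≠ 0) (n : Mat) :
    ph i j w 0 n = n ↔ n j = 0 := by
  have h0 : ph i j w 0 n = n + vecMulVec w (n j) := by
    rw [ph, vecMulVec_zero, vecMulVec_zero, smul_zero, add_zero, add_zero]
  rw [h0, add_eq_left]
  constructor
  · intro h
    obtain ⟨a0, ha0⟩ : ∃ a, w a ≠ 0 := by
      by_contra hcon
      push Not at hcon
      exact hw (funext hcon)
    ext b
    have h1 := congrFun (congrFun h a0) b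
    rw [vecMulVec_apply] at h1
    exact (mul_eq_zero.1 h1).resolve_left ha0
  · intro h
    rw [h, vecMulVec_zero]

omit [CharP F 2] in
theorem ph_eq_iff_right {l : Fin m → F} (hl : l ≠ 0) (n : Mat) :
    ph i j 0 l n = n ↔ (fun a => n a i) = 0 := by
  have h0 : ph i j 0 l n = n + vecMulVec (fun a => n a i) l := by
    rw [ph, zero_vecMulVec, zero_vecMulVec, smul_zero, add_zero, add_zero]
  rw [h0, add_eq_left]
  constructor
  · intro h
    obtain ⟨b0, hb0⟩ : ∃ b, l b ≠ 0 := by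
      by_contra hcon
      push Not at hcon
      exact hl (funext hcon)
    ext a
    have h1 := congrFun (congrFun h a) b0
    rw [vecMulVec_apply] at h1
    exact (mul_eq_zero.1 h1).resolve_right hb0
  · intro h
    rw [h, zero_vecMulVec]

end

end Cfsg.Agent.SylowL.StepOne.B2Base
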