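import Mathlib

/-!
# Step 1, case (1B2): the final algebraic contradiction

A semilinearity argument: the operators `T a b = a A + b B + a b δ z` of an elementary abelian group
isomorphic to `F × F` cannot be permuted transitively by additive automorphisms.
-/

set_option autoImplicit false

namespace Cfsg.Agent.SylowL.StepOne.B2Core

theorem core {F V : Type*} [Field F] [CharP F 2] [AddCommGroup V] [Module F V]
    (δ : V →ₗ[F] F) (A B : V →ₗ[F] V) (z : V) (hz : z ≠ 0)
    (hAB : ∀ n, A (B n) = δ n • z) (hBA : ∀ n, B (A n) = δ n • z)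
    (hAA : ∀ n, A (A n) = 0) (hBB : ∀ n, B (B n) = 0) (hAz : A z = 0) (hBz : B z = 0)
    (hδA : ∀ n, δ (A n) = 0) (hδB : ∀ n, δ (B n) = 0) (hδz : δ z = 0)
    (n1 : V) (h1 : δ n1 = 1)
    (γ : V →+ V) (hγ : Function.Injective γ)
    (hT : ∀ a b : F, ∃ a' b' : F, ∀ n, γ (a • A n + b • B n + (a * b * δ n) • z)
      = a' • A (γ n) + b' • B (γ n) + (a' * b' * δ (γ n)) • z)
    (h0 : ∀ n, γ (A n) = A (γ n) + B (γ n) + δ (γ n) • z)
    {c : F} (hc0 : c ≠ 0) (hc1 : c ≠ 1) : False := by
  have hne : ∀ v : V, v ≠ 0 → γ v ≠ 0 := by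
    intro v hv h
    exact hv (hγ (by rw [h, map_zero]))
  obtain ⟨a1, b1, hB⟩ := hT 0 1
  have hB : ∀ n, γ (B n) = a1 • A (γ n) + b1 • B (γ n) + (a1 * b1 * δ (γ n)) • z := by
    intro n
    have := hB n
    simpa using this
  -- (c)
  have hc : ∀ n, γ (δ n • z) = ((a1 + b1) * δ (γ n)) • z := by
    intro n
    rw [← hAB, h0, hB]
    simp only [map_add, map_smul, hAA, hAB, hBA, hBB, hAz, hBz, hδA, hδB, hδz, smul_zero, mul_zero,
      zero_smul, add_zero, zero_add, smul_smul, smul_eq_mul]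
    rw [← add_smul]
    congr 1
    ring
  have hΓ : (a1 + b1) * δ (γ n1) ≠ 0 := by
    intro h
    have h2 := hc n1
    rw [h1, one_smul, h, zero_smul] at h2
    exact hne z hz h2
  have hD : a1 + b1 ≠ 0 := left_ne_zero_of_mul hΓ
  have hδ1 : δ (γ n1) ≠ 0 := right_ne_zero_of_mul hΓ
  -- (d)
  have hd : ∀ c : F, ∃ p : F, (∀ n, γ (c • A n) = p • A (γ n) + p • B (γ n) + (p * p * δ (γ n)) • z) ∧
      ∀ n, δ (γ (c • n)) = p * δ (γ n) := by
    intro c
    obtain ⟨p, q, hpq⟩ := hT c 0
    have hpq : ∀ n, γ (c • A n) = p • A (γ n) + q • B (γ n) + (p * q * δ (γ n)) • z := by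
      intro n
      have := hpq n
      simpa using this
    have h2 : p = q := by
      have h3 := hpq (A n1)
      rw [hAA, smul_zero, map_zero, h0] at h3
      simp only [map_add, map_smul, hAA, hAB, hBA, hBB, hAz, hBz, hδA, hδB, hδz, smul_zero, mul_zero,
        zero_smul, add_zero, zero_add, smul_smul, smul_eq_mul] at h3
      rw [← add_smul] at h3
      have h4 : p * δ (γ n1) + q * δ (γ n1) = 0 := by
        by_contra h5
        exact (smul_ne_zero h5 hz) h3.symm
      rw [← add_mul] at h4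
      have h5 := (mul_eq_zero.1 h4).resolve_right hδ1
      exact CharTwo.add_eq_zero.1 h5
    subst h2
    refine ⟨p, hpq, fun n => ?_⟩
    have h3 := hpq (B n)
    have h4 : c • A (B n) = δ (c • n) • z := by rw [hAB, map_smul, smul_smul, smul_eq_mul]
    rw [h4, hc, hB] at h3
    simp only [map_add, map_smul, hAA, hAB, hBA, hBB, hAz, hBz, hδA, hδB, hδz, smul_zero, mul_zero,
      zero_smul, add_zero, zero_add, smul_smul, smul_eq_mul] at h3
    rw [← add_smul] at h3
    have h5 := smul_left_injective F hz h3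
    have h6 : (a1 + b1) * (δ (γ (c • n))) = (a1 + b1) * (p * δ (γ n)) := by
      rw [h5]; ring
    exact mul_left_cancel₀ hD h6
  obtain ⟨p, hp, hp'⟩ := hd c
  obtain ⟨p2, hp2, hp2'⟩ := hd (c * c)
  have e2 : p2 = p * p := by
    have h2 := hp2' n1
    rw [← smul_smul, hp', hp', ← mul_assoc] at h2
    exact (mul_right_cancel₀ hδ1 h2).symm
  subst e2
  -- the two relations
  have E1 : A (γ (c • n1)) + B (γ (c • n1)) + (p * δ (γ n1)) • z
      = p • A (γ n1) + p • B (γ n1) + (p * p * δ (γ n1)) • z := by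
    rw [← hp n1, ← hp' n1, ← h0, LinearMap.map_smul]
  have E2 : p • A (γ (c • n1)) + p • B (γ (c • n1)) + (p * p * (p * δ (γ n1))) • z
      = (p * p) • A (γ n1) + (p * p) • B (γ n1) + ((p * p) * (p * p) * δ (γ n1)) • z := by
    rw [← hp2 n1, ← hp' n1, ← hp, LinearMap.map_smul, smul_smul]
  have E3 := congrArg (fun x => p • x) E1
  simp only [smul_add, smul_smul] at E3
  have E4 : (p * p * (p * δ (γ n1))) • z - (p * (p * δ (γ n1))) • z
      = ((p * p) * (p * p) * δ (γ n1)) • z - (p * (p * p * δ (γ n1))) • z := by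
    have h2 := congrArg₂ (fun x y => x - y) E2 E3
    simp only [add_sub_add_left_eq_sub] at h2
    exact h2
  rw [← sub_smul, ← sub_smul] at E4
  have E5 := smul_left_injective F hz E4
  have E6 : (p * (p - 1)) * (p * (p - 1)) * δ (γ n1) = 0 := by
    linear_combination (-1 : F) * E5
  have E7 : p * (p - 1) = 0 := by
    rcases mul_eq_zero.1 E6 with h | h
    · exact mul_self_eq_zero.1 h
    · exact absurd h hδ1
  rcases mul_eq_zero.1 E7 with h | h
  · -- p = 0
    have h2 := hc (c • n1)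
    rw [hp', h, zero_mul, mul_zero, zero_smul, LinearMap.map_smul, h1, smul_eq_mul, mul_one] at h2
    exact hne _ (smul_ne_zero hc0 hz) h2
  · have h3 : δ (γ ((c - 1) • n1)) = 0 := by
      have h4 : (c - 1) • n1 = c • n1 - n1 := by rw [sub_smul, one_smul]
      have h5 : γ ((c - 1) • n1) = γ (c • n1) - γ n1 := by rw [h4, AddMonoidHom.map_sub]
      rw [h5, LinearMap.map_sub, hp', ← sub_one_mul, h, zero_mul]
    have h2 := hc ((c - 1) • n1)
    rw [h3, mul_zero, zero_smul, LinearMap.map_smul, h1, smul_eq_mul, mul_one] at h2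
    exact hne _ (smul_ne_zero (sub_ne_zero.2 hc1) hz) h2

end Cfsg.Agent.SylowL.StepOne.B2Core
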