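import Cfsg.Agent.SylowL.StepOne.B2Base
import Cfsg.Agent.SylowL.StepOne.B2Core

/-!
# Step 1, case (1B2)
-/

set_option autoImplicit false

namespace Cfsg.Agent.SylowL.StepOne.B2Main

open Matrix Subgroup
open Cfsg.Agent.SylowL.Lev Cfsg.Agent.SylowL.UT Cfsg.Agent.SylowL.Pat
open Cfsg.Agent.SylowL.EssDatum Cfsg.Agent.SylowL.EssUT Cfsg.Agent.SylowL.EssTwo
open Cfsg.Agent.SylowL.StepOne Cfsg.Agent.SylowL.StepOne.B2Base

/-! ### Generalities -/

section General

variable {S G : Type*} [Group S] [Group G]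

/-- The elements of order at most `2` of `N(E) / E`, if they commute. -/
def Om (E : Subgroup S) (hcomm : ∀ t t', IsInv E t → IsInv E t' → t * t' * t⁻¹ * t'⁻¹ ∈ E) : Subgroup S where
  carrier := {g | g ∈ normalizer (E : Set S) ∧ g * g ∈ E}
  one_mem' := ⟨one_mem _, by rw [mul_one]; exact one_mem _⟩
  mul_mem' := by
    rintro g h ⟨hg, hg2⟩ ⟨hh, hh2⟩
    refine ⟨mul_mem hg hh, ?_⟩
    by_cases hgE : g ∈ E
    · have e1 : g * h * (g * h) = g * (h * g * h⁻¹) * (h * h) := by group
      rw [e1]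
      exact mul_mem (mul_mem hgE (conj_mem_of hh hgE)) hh2
    by_cases hhE : h ∈ E
    · have e1 : g * h * (g * h) = (g * h * g⁻¹) * (g * g) * h := by group
      rw [e1]
      exact mul_mem (mul_mem (conj_mem_of hg hhE) hg2) hhE
    · have h1 := hcomm g h ⟨hg, hg2, hgE⟩ ⟨hh, hh2, hhE⟩
      have e1 : g * h * (g * h) = (g * h * g⁻¹ * h⁻¹) * (h * (g * g) * h⁻¹) * (h * h) := by group
      rw [e1]
      exact mul_mem (mul_mem h1 (conj_mem_of hh hg2)) hh2
  inv_mem' := by
    rintro g ⟨hg, hg2⟩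
    refine ⟨inv_mem hg, ?_⟩
    have e1 : g⁻¹ * g⁻¹ = (g * g)⁻¹ := by group
    rw [e1]
    exact inv_mem hg2

theorem mem_Om {E : Subgroup S} {hcomm : ∀ t t', IsInv E t → IsInv E t' → t * t' * t⁻¹ * t'⁻¹ ∈ E} {g : S} :
    g ∈ Om E hcomm ↔ g ∈ normalizer (E : Set S) ∧ g * g ∈ E := Iff.rfl

end General

/-- A functional with kernel contained in `K`. -/
theorem finrank_le_succ {F M : Type*} [Field F] [AddCommGroup M] [Module F M] [FiniteDimensional F M]
    {X K : Submodule F M} (f : M →ₗ[F] F) (h : ∀ n ∈ X, f n = 0 → n ∈ K) :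
    Module.finrank F X ≤ Module.finrank F K + 1 := by
  set g : X →ₗ[F] F := f.comp X.subtype with hg
  have h1 := LinearMap.finrank_range_add_finrank_ker g
  have h2 : Module.finrank F (LinearMap.range g) ≤ 1 := by
    have := Submodule.finrank_le (LinearMap.range g)
    rwa [Module.finrank_self] at this
  have h3 : Module.finrank F (LinearMap.ker g) ≤ Module.finrank F K := by
    have h4 : (LinearMap.ker g).map X.subtype ≤ K := by
      rintro _ ⟨n, hn, rfl⟩
      exact h _ n.2 hn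
    have h5 := Submodule.finrank_mono h4
    have h6 : Module.finrank F ((LinearMap.ker g).map X.subtype) = Module.finrank F (LinearMap.ker g) :=
      (Submodule.equivMapOfInjective X.subtype (Submodule.injective_subtype X) _).finrank_eq.symm
    rwa [h6] at h5
  omega

variable {m : ℕ} {F : Type*} [Field F]

local notation "Mat" => Matrix (Fin m) (Fin m) F

/-- row `j` -/
def rowL (j : Fin m) : Mat →ₗ[F] (Fin m → F) where
  toFun n := n j
  map_add' _ _ := rfl
  map_smul' _ _ := rfl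

/-- column `i` -/
def colL (i : Fin m) : Mat →ₗ[F] (Fin m → F) where
  toFun n := fun a => n a i
  map_add' _ _ := rfl
  map_smul' _ _ := rfl

/-- an entry -/
def entL (a b : Fin m) : Mat →ₗ[F] F where
  toFun n := n a b
  map_add' _ _ := rfl
  map_smul' _ _ := rfl

@[simp] theorem rowL_apply (j : Fin m) (n : Mat) : rowL j n = n j := rfl
@[simp] theorem colL_apply (i : Fin m) (n : Mat) : colL i n = fun a => n a i := rfl
@[simp] theorem entL_apply (a b : Fin m) (n : Mat) : entL a b n = n a b := rfl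

section

variable [CharP F 2] {e : Submodule F (Matrix (Fin m) (Fin m) F)} {he : IsAlg e} {CY : Subgroup (UT m F)}
  {o z i j : Fin m}

omit [CharP F 2] in
theorem wo_mem (hB : CaseB e o z i j) (he : IsAlg e) : (Pi.single o 1 : Fin m → F) ∈ Ac e j := by
  refine ⟨fun x hx => ?_, Pi.single_eq_of_ne hB.oj.ne' _⟩
  rw [mulVec_single_one]
  ext a
  exact Lev.apply_eq_zero (he.le hx) (by have := hB.ho; omega)

omit [CharP F 2] in
theorem lz_mem (hB : CaseB e o z i j) (he : IsAlg e) : (Pi.single z 1 : Fin m → F) ∈ Ar e i := by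
  refine ⟨fun x hx => ?_, Pi.single_eq_of_ne hB.iz.ne _⟩
  rw [single_one_vecMul]
  ext a
  exact Lev.apply_eq_zero (he.le hx) (by have := hB.hz; have := a.2; omega)

/-- the vector `e_1` -/
def wo (hB : CaseB e o z i j) (he : IsAlg e) : Ac e j := ⟨Pi.single o 1, wo_mem hB he⟩

/-- the vector `e_m` -/
def lz (hB : CaseB e o z i j) (he : IsAlg e) : Ar e i := ⟨Pi.single z 1, lz_mem hB he⟩

omit [CharP F 2] in
theorem wo_ne (hB : CaseB e o z i j) (he : IsAlg e) : (wo hB he : Fin m → F) ≠ 0 := by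
  intro h
  have h1 : (Pi.single o 1 : Fin m → F) o = 0 := congrFun h o
  rw [Pi.single_eq_same] at h1
  exact one_ne_zero h1

omit [CharP F 2] in
theorem lz_ne (hB : CaseB e o z i j) (he : IsAlg e) : (lz hB he : Fin m → F) ≠ 0 := by
  intro h
  have h1 : (Pi.single z 1 : Fin m → F) z = 0 := congrFun h z
  rw [Pi.single_eq_same] at h1
  exact one_ne_zero h1

/-- the elements of `X_1j X_im` -/
def T (hB : CaseB e o z i j) (he : IsAlg e) (a b : F) : UT m F := tt hB (a • wo hB he) (b • lz hB he)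

theorem T_not_mem (hB : CaseB e o z i j) (A : StepTwo.Act e he CY ⊥ (vee e))
    (hx : ∀ s t : F, s • single o j (1 : F) + t • single i z (1 : F) ∈ e → s = 0 ∧ t = 0) {a b : F}
    (h : T hB he a b ∈ ofAlg e he) : a = 0 ∧ b = 0 := by
  apply hx
  rw [mem_ofAlg, T, tt, N_mul, N_tv, N_tv, vmv_mul_vmv] at h
  have h1 : vecMulVec ((a • wo hB he : Ac e j) : Fin m → F) (Pi.single j (1 : F)) = a • single o j (1 : F) := by
    rw [single_eq_vmv, ← smul_vecMulVec]; rfl
  have h2 : vecMulVec (Pi.single i (1 : F)) ((b • lz hB he : Ar e i) : Fin m → F) = b • single i z (1 : F) := by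
    rw [single_eq_vmv, ← vecMulVec_smul]; rfl
  have h3 : vecMulVec ((a • wo hB he : Ac e j) : Fin m → F) ((b • lz hB he : Ar e i) : Fin m → F)
      = (a * b) • single o z (1 : F) := by
    rw [single_eq_vmv]
    have e1 : ((a • wo hB he : Ac e j) : Fin m → F) = a • Pi.single o 1 := rfl
    have e2 : ((b • lz hB he : Ar e i) : Fin m → F) = b • Pi.single z 1 := rfl
    rw [e1, e2, smul_vecMulVec, vecMulVec_smul, smul_smul]
  rw [h1, h2, h3] at h
  have h4 := sub_mem h (e.smul_mem (Pi.single j (1 : F) ⬝ᵥ Pi.single i (1 : F))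
    (e.smul_mem (a * b) (single_oz_mem A hB.ho hB.hz (hB.oj.trans hB.jz) 1)))
  rwa [add_sub_cancel_right] at h4

/-- `T a b` modulo `E` -/
theorem cj_T_T (hB : CaseB e o z i j) (A : StepTwo.Act e he CY ⊥ (vee e)) (a b a' b' : F) {n : Mat} (hn : n ∈ vee e) :
    cj (T hB he a' b') (cj (T hB he a b) n) = cj (T hB he (a + a') (b + b')) n := by
  rw [T, T, T, cj_tt hB A _ _ hn, cj_tt hB A _ _ (ph_mem hB A _ _ hn), cj_tt hB A _ _ hn, ph_ph, add_smul, add_smul]

theorem T_injective (hB : CaseB e o z i j) (A : StepTwo.Act e he CY ⊥ (vee e))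
    (hx : ∀ s t : F, s • single o j (1 : F) + t • single i z (1 : F) ∈ e → s = 0 ∧ t = 0) {a b a' b' : F}
    {x x' : UT m F} (hxe : x ∈ ofAlg e he) (hxe' : x' ∈ ofAlg e he) (h : T hB he a b * x = T hB he a' b' * x') :
    a = a' ∧ b = b' ∧ x = x' := by
  have h1 : T hB he (a + a') (b + b') ∈ ofAlg e he := by
    rw [mem_E_iff A]
    intro n hn
    rw [← cj_T_T hB A a b a' b' hn]
    have h2 : cj (T hB he a b) n = cj (T hB he a' b') n := by
      have h3 : cj (T hB he a b * x) n = cj (T hB he a' b' * x') n := by rw [h]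
      rwa [cj_comp, cj_comp, (mem_E_iff A).1 hxe n hn, (mem_E_iff A).1 hxe' n hn] at h3
    rw [h2, ← cj_comp]
    exact (mem_E_iff A).1 (tt_mem hB A _ _).2 n hn
  obtain ⟨h2, h3⟩ := T_not_mem hB A hx h1
  have h4 := CharTwo.add_eq_zero.1 h2
  have h5 := CharTwo.add_eq_zero.1 h3
  subst h4
  subst h5
  exact ⟨rfl, rfl, mul_left_cancel h⟩

theorem mem_cent_tt (hB : CaseB e o z i j) (A : StepTwo.Act e he CY ⊥ (vee e)) {w : Ac e j} {l : Ar e i}
    (hw : (w : Fin m → F) ≠ 0) (hl : (l : Fin m → F) ≠ 0) {n : Mat} :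
    n ∈ cent ⊥ (vee e) (tt hB w l) ↔ n ∈ vee e ∧ ∃ c : F, n j = c • (l : Fin m → F) ∧
      (fun a => n a i) = c • (w : Fin m → F) := by
  rw [mem_cent]
  refine and_congr_right fun hn => ?_
  rw [Submodule.mem_bot, sub_eq_zero, cj_tt hB A _ _ hn, ph_eq_iff hw hl w.2.2]

theorem mem_cent_row (hB : CaseB e o z i j) (A : StepTwo.Act e he CY ⊥ (vee e)) {w : Ac e j}
    (hw : (w : Fin m → F) ≠ 0) {n : Mat} :
    n ∈ cent ⊥ (vee e) (tt hB w 0) ↔ n ∈ vee e ∧ n j = 0 := by
  rw [mem_cent]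
  refine and_congr_right fun hn => ?_
  rw [Submodule.mem_bot, sub_eq_zero, cj_tt hB A _ _ hn]
  exact ph_eq_iff_left hw n

theorem mem_cent_col (hB : CaseB e o z i j) (A : StepTwo.Act e he CY ⊥ (vee e)) {l : Ar e i}
    (hl : (l : Fin m → F) ≠ 0) {n : Mat} :
    n ∈ cent ⊥ (vee e) (tt hB 0 l) ↔ n ∈ vee e ∧ (fun a => n a i) = 0 := by
  rw [mem_cent]
  refine and_congr_right fun hn => ?_
  rw [Submodule.mem_bot, sub_eq_zero, cj_tt hB A _ _ hn]
  exact ph_eq_iff_right hl n

end

/-! ### Numerical consequences of the datum -/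

section Numbers

variable {G : Type*} [Group G] [Finite G] {ι : UT m F →* G} [Finite F] [CharP F 2]
  {e : Submodule F (Matrix (Fin m) (Fin m) F)} {he : IsAlg e} (D : Datum ι (ofAlg e he))

theorem card_V : Nat.card (Datum.OmZ (ofAlg e he) ⊥ inferInstance) = Nat.card F ^ Module.finrank F (vee e) := by
  rw [← card_eq_pow]
  exact card_eq_card_of_iff (vee_le.trans he.le) fun _ => mem_OmZ_bot he

theorem card_Cent_bot (t : UT m F) : Nat.card (Cent ⊥ (Datum.OmZ (ofAlg e he) ⊥ inferInstance) t)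
    = Nat.card F ^ Module.finrank F (cent ⊥ (vee e) t) := by
  rw [← card_eq_pow, ← card_Cent isIdeal_bot (V := Datum.OmZ (ofAlg e he) ⊥ inferInstance)
    (vee_le.trans he.le) (fun _ => mem_OmZ_bot he), ofAlg_bot]

omit [Finite G] in
include D in
theorem finrank_cent_eq {t t' : UT m F} (ht : IsInv (ofAlg e he) t) (ht' : IsInv (ofAlg e he) t') :
    Module.finrank F (cent ⊥ (vee e) t) = Module.finrank F (cent ⊥ (vee e) t') := by
  have h := D.card_Cent_eq (Datum.OmZ_le _ _) (D.inv_OmZ (K := ⊥) inferInstance Inv.bot) Inv.bot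
    (comm_OmZ' _ _ _) ht ht'
  rw [card_Cent_bot, card_Cent_bot] at h
  exact Nat.pow_right_injective one_lt_card h

omit [Finite G] in
theorem card_Om (hn : ¬ Triv ι D.Y (Datum.OmZ (ofAlg e he) ⊥ inferInstance) ⊥) {t : UT m F}
    (ht : IsInv (ofAlg e he) t) : Nat.card (Om (ofAlg e he) D.comm) * Nat.card F ^ Module.finrank F (cent ⊥ (vee e) t)
      ≤ Nat.card F ^ Module.finrank F (vee e) * Nat.card (ofAlg e he) := by
  have h := D.bound _ _ bot_le (Datum.OmZ_le _ _) (D.inv_OmZ (K := ⊥) inferInstance Inv.bot) Inv.bot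
    (fun b hb => hb.2.2) (comm_OmZ' _ _ _) hn t ht (Om (ofAlg e he) D.comm)
    (fun x hx => ⟨le_normalizer hx, mul_mem hx hx⟩) (fun d hd => hd)
  rwa [card_Cent_bot, card_V] at h

omit [Finite G] [Finite F] in
theorem T_mem_Om {CY : Subgroup (UT m F)} {o z i j : Fin m} (hB : CaseB e o z i j)
    (A : StepTwo.Act e he CY ⊥ (vee e)) (a b : F) {x : UT m F} (hx : x ∈ ofAlg e he) :
    T hB he a b * x ∈ Om (ofAlg e he) D.comm :=
  mul_mem (tt_mem hB A _ _) ⟨le_normalizer hx, mul_mem hx hx⟩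

/-- `F × F × E → Om` -/
def toOm {CY : Subgroup (UT m F)} {o z i j : Fin m} (hB : CaseB e o z i j)
    (A : StepTwo.Act e he CY ⊥ (vee e)) (p : F × F × ofAlg e he) : Om (ofAlg e he) D.comm :=
  ⟨T hB he p.1 p.2.1 * p.2.2, T_mem_Om D hB A _ _ p.2.2.2⟩

omit [Finite G] [Finite F] in
theorem toOm_injective {CY : Subgroup (UT m F)} {o z i j : Fin m} (hB : CaseB e o z i j)
    (A : StepTwo.Act e he CY ⊥ (vee e))
    (hx : ∀ s t : F, s • single o j (1 : F) + t • single i z (1 : F) ∈ e → s = 0 ∧ t = 0) :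
    Function.Injective (toOm D hB A) := by
  rintro ⟨a, b, x⟩ ⟨a', b', x'⟩ h
  obtain ⟨h1, h2, h3⟩ := T_injective hB A hx x.2 x'.2 (congrArg Subtype.val h)
  subst h1
  subst h2
  rw [Subtype.ext h3]

end Numbers

/-! ### Ranks -/

section Rank

variable {G : Type*} [Group G] [Finite G] {ι : UT m F →* G} [Finite F] [CharP F 2]
  {e : Submodule F (Matrix (Fin m) (Fin m) F)} {he : IsAlg e} (D : Datum ι (ofAlg e he))
  {o z i j : Fin m}

omit [CharP F 2] in
theorem exists_scalar (hq : 4 ≤ Nat.card F) : ∃ c : F, c ≠ 0 ∧ c ≠ 1 := by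
  classical
  have := Fintype.ofFinite F
  by_contra hcon
  push Not at hcon
  have h1 : Nat.card F ≤ 2 := by
    have h2 : (Finset.univ : Finset F) ⊆ {0, 1} := by
      intro c _
      rw [Finset.mem_insert, Finset.mem_singleton]
      by_cases h : c = 0
      · exact Or.inl h
      · exact Or.inr (hcon c h)
    have h3 := Finset.card_le_card h2
    rw [Finset.card_univ, ← Nat.card_eq_fintype_card] at h3
    exact h3.trans Finset.card_le_two
  omega

omit [Finite F] [CharP F 2] in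
theorem T_one_zero (hB : CaseB e o z i j) : T hB he 1 0 = tt hB (wo hB he) 0 := by
  rw [T, one_smul, zero_smul]

omit [Finite F] [CharP F 2] in
theorem T_zero_one (hB : CaseB e o z i j) : T hB he 0 1 = tt hB 0 (lz hB he) := by
  rw [T, one_smul, zero_smul]

omit [Finite F] [CharP F 2] in
theorem T_one_one (hB : CaseB e o z i j) : T hB he 1 1 = tt hB (wo hB he) (lz hB he) := by
  rw [T, one_smul, one_smul]

theorem ranks (hq : 4 ≤ Nat.card F) (hn : ¬ Triv ι D.Y (Datum.OmZ (ofAlg e he) ⊥ inferInstance) ⊥)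
    (hB : CaseB e o z i j)
    (hx : ∀ s t : F, s • single o j (1 : F) + t • single i z (1 : F) ∈ e → s = 0 ∧ t = 0) :
    (∃ n ∈ vee e, n j i = 1) ∧ ∀ u, IsInv (ofAlg e he) u → ∃ a b : F, ∃ x ∈ ofAlg e he, u = T hB he a b * x := by
  have A := act_bot D hn
  have hT10 : IsInv (ofAlg e he) (tt hB (wo hB he) 0) := isInv_tt hB A _ _ fun h => by
    rw [← T_one_zero] at h
    exact one_ne_zero (T_not_mem hB A hx h).1
  have hT01 : IsInv (ofAlg e he) (tt hB 0 (lz hB he)) := isInv_tt hB A _ _ fun h => by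
    rw [← T_zero_one] at h
    exact one_ne_zero (T_not_mem hB A hx h).2
  have hT11 : IsInv (ofAlg e he) (tt hB (wo hB he) (lz hB he)) := isInv_tt hB A _ _ fun h => by
    rw [← T_one_one] at h
    exact one_ne_zero (T_not_mem hB A hx h).1
  set Kr : Submodule F Mat := cent ⊥ (vee e) (tt hB (wo hB he) 0) with hKr
  set Kc : Submodule F Mat := cent ⊥ (vee e) (tt hB 0 (lz hB he)) with hKc
  set K : Submodule F Mat := Kr ⊓ Kc with hK
  set c := Module.finrank F Kr with hc
  have hcc : Module.finrank F Kc = c := finrank_cent_eq D hT01 hT10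
  have memK : ∀ n, n ∈ K ↔ n ∈ vee e ∧ n j = 0 ∧ (fun a => n a i) = 0 := by
    intro n
    rw [hK, Submodule.mem_inf, hKr, hKc, mem_cent_row hB A (wo_ne hB he), mem_cent_col hB A (lz_ne hB he)]
    tauto
  -- numbers
  have hOm := card_Om D hn hT10
  have hcard : Nat.card F * Nat.card F * Nat.card (ofAlg e he) ≤ Nat.card (Om (ofAlg e he) D.comm) := by
    have := Nat.card_le_card_of_injective _ (toOm_injective D hB A hx)
    rwa [Nat.card_prod, Nat.card_prod, ← mul_assoc] at this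
  have hq0 : 1 < Nat.card F := one_lt_card
  have hE0 : 0 < Nat.card (ofAlg e he) := Nat.card_pos
  have hv : c + 2 ≤ Module.finrank F (vee e) := by
    have h1 : Nat.card F ^ (c + 2) * Nat.card (ofAlg e he)
        ≤ Nat.card F ^ Module.finrank F (vee e) * Nat.card (ofAlg e he) := by
      refine le_trans (le_of_eq ?_) ((Nat.mul_le_mul_right _ hcard).trans hOm)
      rw [pow_add]; ring
    exact (Nat.pow_le_pow_iff_right hq0).1 (Nat.le_of_mul_le_mul_right h1 hE0)
  have hKle : ∀ (w : Ac e j) (l : Ar e i), (w : Fin m → F) ≠ 0 → (l : Fin m → F) ≠ 0 →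
      Module.finrank F (cent ⊥ (vee e) (tt hB w l)) ≤ Module.finrank F K + 1 := by
    intro w l hw hl
    obtain ⟨b0, hb0⟩ : ∃ b, (l : Fin m → F) b ≠ 0 := by
      by_contra hcon
      push Not at hcon
      exact hl (funext hcon)
    refine finrank_le_succ (entL j b0) fun n hn h => ?_
    obtain ⟨h1, c', h2, h3⟩ := (mem_cent_tt hB A hw hl).1 hn
    have h4 : c' = 0 := by
      rw [entL_apply, h2, Pi.smul_apply, smul_eq_mul] at h
      exact (mul_eq_zero.1 h).resolve_right hb0
    rw [memK]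
    exact ⟨h1, by rw [h2, h4, zero_smul], by rw [h3, h4, zero_smul]⟩
  have hKle' : ∀ (w : Ac e j) (l : Ar e i), (w : Fin m → F) ≠ 0 → (l : Fin m → F) ≠ 0 →
      K ≤ cent ⊥ (vee e) (tt hB w l) := by
    intro w l hw hl n hn
    rw [memK] at hn
    exact (mem_cent_tt hB A hw hl).2 ⟨hn.1, 0, by rw [hn.2.1, zero_smul], by rw [hn.2.2, zero_smul]⟩
  have htt : ∀ (w : Ac e j) (l : Ar e i), (w : Fin m → F) ≠ 0 → (l : Fin m → F) ≠ 0 →
      Module.finrank F K ≤ c → tt hB w l ∉ ofAlg e he := by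
    intro w l hw hl hKc h
    have h1 : vee e ≤ cent ⊥ (vee e) (tt hB w l) := by
      intro n hn
      rw [mem_cent]
      exact ⟨hn, by rw [(mem_E_iff A).1 h n hn, sub_self]; exact zero_mem _⟩
    have h2 := Submodule.finrank_mono h1
    have h3 := hKle w l hw hl
    omega
  have hK1 : Module.finrank F K ≤ c := Submodule.finrank_mono inf_le_left
  have hK2 : c ≤ Module.finrank F K + 1 := by
    have h1 := hKle (wo hB he) (lz hB he) (wo_ne hB he) (lz_ne hB he)
    rwa [finrank_cent_eq D hT11 hT10] at h1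
  set V0 : Submodule F Mat := vee e ⊓ LinearMap.ker (entL j i) with hV0
  have hV01 : Module.finrank F (vee e) ≤ Module.finrank F V0 + 1 :=
    finrank_le_succ (entL j i) fun n hn h => ⟨hn, h⟩
  have memV0 : ∀ n, n ∈ V0 ↔ n ∈ vee e ∧ n j i = 0 := fun n => Iff.rfl
  have col_mem : ∀ n ∈ V0, (fun a => n a i) ∈ Ac e j := fun n hn =>
    ⟨fun x hx => hB.mul_col he hn.1 hx, hn.2⟩
  have row_mem : ∀ n ∈ V0, n j ∈ Ar e i := fun n hn =>
    ⟨fun x hx => hB.row_mul he hn.1 hx, hn.2⟩
  by_cases hcase : Module.finrank F K = c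
  · -- `f = d`
    exfalso
    have hKr' : K = Kr := Submodule.eq_of_le_of_finrank_le inf_le_left (by omega)
    have hKc' : K = Kc := Submodule.eq_of_le_of_finrank_le inf_le_right (by omega)
    obtain ⟨n, hn, hnK⟩ : ∃ n ∈ V0, n ∉ K := by
      by_contra hcon
      push Not at hcon
      have := Submodule.finrank_mono (show V0 ≤ K from hcon)
      omega
    have hl : n j ≠ 0 := by
      intro h
      apply hnK
      rw [hKr', hKr, mem_cent_row hB A (wo_ne hB he)]
      exact ⟨hn.1, h⟩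
    have hw : (fun a => n a i) ≠ 0 := by
      intro h
      apply hnK
      rw [hKc', hKc, mem_cent_col hB A (lz_ne hB he)]
      exact ⟨hn.1, h⟩
    have h1 : IsInv (ofAlg e he) (tt hB ⟨_, col_mem n hn⟩ ⟨_, row_mem n hn⟩) :=
      isInv_tt hB A _ _ (htt ⟨_, col_mem n hn⟩ ⟨_, row_mem n hn⟩ hw hl hK1)
    have h2 : Module.finrank F (cent ⊥ (vee e) (tt hB ⟨_, col_mem n hn⟩ ⟨_, row_mem n hn⟩)) = c :=
      finrank_cent_eq D h1 hT10
    have h3 : K < cent ⊥ (vee e) (tt hB ⟨_, col_mem n hn⟩ ⟨_, row_mem n hn⟩) := by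
      refine lt_of_le_of_ne (hKle' ⟨_, col_mem n hn⟩ ⟨_, row_mem n hn⟩ hw hl) fun h => hnK ?_
      rw [h, mem_cent_tt hB A hw hl]
      exact ⟨hn.1, 1, by rw [one_smul], by rw [one_smul]⟩
    have h4 := Submodule.finrank_lt_finrank_of_lt h3
    omega
  · -- `f = d + 1`
    have hKc1 : Module.finrank F K + 1 = c := by omega
    obtain ⟨κ, hκ0, hκ1⟩ := exists_scalar (F := F) hq
    have hex : ∀ (w : Ac e j) (l : Ar e i), (w : Fin m → F) ≠ 0 → (l : Fin m → F) ≠ 0 →
        ∃ n ∈ vee e, n j = l ∧ (fun a => n a i) = (w : Fin m → F) := by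
      intro w l hw hl
      have h1 := isInv_tt hB A _ _ (htt w l hw hl hK1)
      have h2 : Module.finrank F (cent ⊥ (vee e) (tt hB w l)) = c := finrank_cent_eq D h1 hT10
      obtain ⟨n, hn, hnK⟩ : ∃ n ∈ cent ⊥ (vee e) (tt hB w l), n ∉ K := by
        by_contra hcon
        push Not at hcon
        have := Submodule.finrank_mono (show cent ⊥ (vee e) (tt hB w l) ≤ K from hcon)
        omega
      obtain ⟨h3, c', h4, h5⟩ := (mem_cent_tt hB A hw hl).1 hn
      have hc' : c' ≠ 0 := by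
        rintro rfl
        apply hnK
        rw [memK]
        exact ⟨h3, by rw [h4, zero_smul], by rw [h5, zero_smul]⟩
      refine ⟨c'⁻¹ • n, Submodule.smul_mem _ _ h3, ?_, ?_⟩
      · have : (c'⁻¹ • n) j = c'⁻¹ • n j := rfl
        rw [this, h4, smul_smul, inv_mul_cancel₀ hc', one_smul]
      · have : (fun a => (c'⁻¹ • n) a i) = c'⁻¹ • fun a => n a i := rfl
        rw [this, h5, smul_smul, inv_mul_cancel₀ hc', one_smul]
    have hexc : ∀ w : Ac e j, ∃ n ∈ vee e, n j = 0 ∧ (fun a => n a i) = (w : Fin m → F) := by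
      intro w
      by_cases hw : (w : Fin m → F) = 0
      · exact ⟨0, zero_mem _, rfl, hw.symm⟩
      obtain ⟨n, h1, h2, h3⟩ := hex w (lz hB he) hw (lz_ne hB he)
      obtain ⟨n', h1', h2', h3'⟩ := hex (κ • w) (lz hB he) (smul_ne_zero hκ0 hw) (lz_ne hB he)
      have h4 : κ - 1 ≠ 0 := sub_ne_zero.2 hκ1
      refine ⟨(κ - 1)⁻¹ • (n' - n), Submodule.smul_mem _ _ (sub_mem h1' h1), ?_, ?_⟩
      · have : ((κ - 1)⁻¹ • (n' - n)) j = (κ - 1)⁻¹ • (n' j - n j) := rfl
        rw [this, h2, h2', sub_self, smul_zero]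
      · have : (fun a => ((κ - 1)⁻¹ • (n' - n)) a i) = (κ - 1)⁻¹ • ((fun a => n' a i) - fun a => n a i) := rfl
        rw [this, h3, h3']
        have h5 : ((κ • w : Ac e j) : Fin m → F) = κ • (w : Fin m → F) := rfl
        have h6 : κ • (w : Fin m → F) - (w : Fin m → F) = (κ - 1) • (w : Fin m → F) := by
          rw [sub_smul, one_smul]
        rw [h5, h6, smul_smul, inv_mul_cancel₀ h4, one_smul]
    obtain ⟨n0, h01, h02, h03⟩ := hexc (wo hB he)
    have hn0 : n0 ∈ Kr := by
      rw [hKr, mem_cent_row hB A (wo_ne hB he)]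
      exact ⟨h01, h02⟩
    have hn0K : n0 ∉ K := by
      intro h
      rw [memK] at h
      exact wo_ne hB he (h03.symm.trans h.2.2)
    have hKr1 : K ⊔ Submodule.span F {n0} = Kr := by
      refine Submodule.eq_of_le_of_finrank_le (sup_le inf_le_left
        ((Submodule.span_singleton_le_iff_mem _ _).2 hn0)) ?_
      have h1 : K < K ⊔ Submodule.span F {n0} := by
        refine lt_of_le_of_ne le_sup_left fun h => hn0K ?_
        rw [h]
        exact Submodule.mem_sup_right (Submodule.mem_span_singleton_self n0)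
      have h2 := Submodule.finrank_lt_finrank_of_lt h1
      omega
    have hAc : ∀ w : Ac e j, ∃ r : F, (w : Fin m → F) = r • Pi.single o 1 := by
      intro w
      obtain ⟨n, h1, h2, h3⟩ := hexc w
      have h4 : n ∈ Kr := by
        rw [hKr, mem_cent_row hB A (wo_ne hB he)]
        exact ⟨h1, h2⟩
      rw [← hKr1] at h4
      obtain ⟨k, hk, b, hb, rfl⟩ := Submodule.mem_sup.1 h4
      obtain ⟨r, rfl⟩ := Submodule.mem_span_singleton.1 hb
      refine ⟨r, ?_⟩
      rw [memK] at hk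
      have h5 : (fun a => (k + r • n0) a i) = (fun a => k a i) + r • fun a => n0 a i := rfl
      rw [← h3, h5, hk.2.2, zero_add, h03]
      rfl
    have hV02 : Module.finrank F V0 ≤ Module.finrank F Kc + 1 := by
      refine finrank_le_succ (entL o i) fun n hn h => ?_
      rw [hKc, mem_cent_col hB A (lz_ne hB he)]
      refine ⟨hn.1, ?_⟩
      obtain ⟨r, hr⟩ := hAc ⟨_, col_mem n hn⟩
      have h1 : n o i = r := by
        have h2 : n o i = (r • Pi.single o 1 : Fin m → F) o := congrFun hr o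
        rw [h2, Pi.smul_apply, Pi.single_eq_same, smul_eq_mul, mul_one]
      have h3 : r = 0 := by rw [← h1]; exact h
      have h4 : (fun a => n a i) = r • Pi.single o 1 := hr
      rw [h4, h3, zero_smul]
    have hvc : Module.finrank F (vee e) = c + 2 := by omega
    refine ⟨?_, ?_⟩
    · obtain ⟨n, hn, hn0⟩ : ∃ n ∈ vee e, n ∉ V0 := by
        by_contra hcon
        push Not at hcon
        have := Submodule.finrank_mono (show vee e ≤ V0 from hcon)
        omega
      have h1 : n j i ≠ 0 := fun h => hn0 ⟨hn, h⟩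
      refine ⟨(n j i)⁻¹ • n, Submodule.smul_mem _ _ hn, ?_⟩
      rw [Matrix.smul_apply, smul_eq_mul, inv_mul_cancel₀ h1]
    · intro u hu
      have h1 : Nat.card (Om (ofAlg e he) D.comm) ≤ Nat.card (F × F × ofAlg e he) := by
        rw [hvc, pow_add] at hOm
        have h2 : Nat.card (Om (ofAlg e he) D.comm) * Nat.card F ^ c
            ≤ Nat.card (F × F × ofAlg e he) * Nat.card F ^ c := by
          refine hOm.trans (le_of_eq ?_)
          rw [Nat.card_prod, Nat.card_prod]
          ring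
        exact Nat.le_of_mul_le_mul_right h2 (pow_pos (by omega) _)
      have h2 := Function.Injective.bijective_of_nat_card_le (toOm_injective D hB A hx) h1
      obtain ⟨⟨a, b, x⟩, h3⟩ := h2.2 ⟨u, hu.mem, hu.sq⟩
      exact ⟨a, b, x, x.2, (congrArg Subtype.val h3).symm⟩

end Rank

end Cfsg.Agent.SylowL.StepOne.B2Main
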