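import Cfsg.Agent.SylowL.StepOne.Basic

/-!
# Step 1, case (A): the last column is in `e`; then `E = Q_1`
-/

set_option autoImplicit false

namespace Cfsg.Agent.SylowL.StepOne

open Matrix Subgroup
open Cfsg.Agent.SylowL.Lev Cfsg.Agent.SylowL.UT Cfsg.Agent.SylowL.Pat
open Cfsg.Agent.SylowL.EssDatum Cfsg.Agent.SylowL.EssUT Cfsg.Agent.SylowL.EssTwo

variable {m : ℕ} {F : Type*} [Field F]

local notation "Mat" => Matrix (Fin m) (Fin m) F

theorem caseA {G : Type*} [Group G] [Finite G] {ι : UT m F →* G} [Finite F] [CharP F 2]
    {e : Submodule F Mat} {he : IsAlg e} (D : Datum ι (ofAlg e he))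
    (hn : ¬ Triv ι D.Y (Datum.OmZ (ofAlg e he) ⊥ inferInstance) ⊥) {o z : Fin m} (ho : (o : ℕ) = 0)
    (hz : (z : ℕ) + 1 = m) (hA : ∀ a, a < z → single a z (1 : F) ∈ e) (hne : ¬ lev m F 1 ≤ e) :
    ∃ i j : Fin m, (i : ℕ) + 1 = j ∧ ∀ x, x ∈ e ↔ x ∈ lev m F 1 ∧ x i j = 0 := by
  have A := act_bot D hn
  -- (1)
  have hcol : ∀ n ∈ vee e, ∀ c a, a < z → n c a = 0 := fun n hn c a ha => vee_col he ha (hA a ha) hn c
  have hle : ∀ a : Fin m, a ≤ z := by
    intro a
    rw [Fin.le_def]
    have := a.2
    omega
  have hoa : ∀ a : Fin m, o ≤ a := by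
    intro a
    rw [Fin.le_def]
    omega
  have hzrow : ∀ y ∈ lev m F 1, ∀ b, (y : Mat) z b = 0 := fun y hy b =>
    Lev.apply_eq_zero hy (by have := b.2; omega)
  have hocol : ∀ y ∈ lev m F 1, ∀ b, (y : Mat) b o = 0 := fun y hy b =>
    Lev.apply_eq_zero hy (by omega)
  -- (2)
  obtain ⟨a0, b0, hab0, hmiss⟩ : ∃ a b : Fin m, a < b ∧ single a b (1 : F) ∉ e := by
    by_contra hcon
    push Not at hcon
    refine hne fun x hx => StepTwo.mem_of_supp fun a b hab => hcon a b ?_
    have := hx a b hab
    rw [Fin.lt_def]; omega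
  obtain ⟨i, j, -, -, hmin⟩ := exists_min hab0 hmiss
  have hio : i = o := by
    by_contra hio
    have h1 := hmin.mem o j (hoa i) le_rfl (Or.inl fun h => hio h.symm)
    have hoi : o < i := lt_of_le_of_ne (hoa i) (fun h => hio h.symm)
    exact hmin.nmem (single_mem_of_vee A hmin.lt
      (fun n hn c => hcol n hn c i (hmin.lt.trans_le (hle j)))
      (fun n hn c => vee_row he (hoi.trans hmin.lt) h1 hn c) 1)
  subst hio
  have hij := hmin.lt
  have hjz : j < z := by
    refine lt_of_le_of_ne (hle j) fun h => hmin.nmem ?_
    rw [h]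
    exact hA i (hij.trans_le (hle j))
  have hrow : ∀ n ∈ vee e, ∀ b c, j < b → n b c = 0 := fun n hn b c hb =>
    vee_row he (hij.trans hb) (hmin.mem i b le_rfl hb.le (Or.inr hb.ne')) hn c
  -- (3)
  obtain ⟨ν, hν, hν1⟩ : ∃ ν ∈ vee e, ν j z = 1 := by
    by_contra hcon
    push Not at hcon
    have h0 : ∀ n ∈ vee e, n j z = 0 := by
      intro n hn
      by_contra h
      refine hcon ((n j z)⁻¹ • n) (Submodule.smul_mem _ _ hn) ?_
      rw [Matrix.smul_apply, smul_eq_mul, inv_mul_cancel₀ h]
    refine hmin.nmem (single_mem_of_vee A hij (fun n hn c => hocol n (he.le (vee_le hn)) c) (fun n hn c => ?_) 1)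
    rcases lt_or_eq_of_le (hle c) with h | h
    · exact hcol n hn j c h
    · rw [h]; exact h0 n hn
  -- (4)
  have hijn := hij
  rw [Fin.lt_def] at hijn
  have hxl : single i j (1 : F) ∈ lev m F 1 := single_mem_lev (by omega) 1
  have hx : StepTwo.Inv e (single i j (1 : F)) := by
    refine ⟨hxl, hmin.nmem, ?_, fun y hy => ?_, fun y hy => ?_⟩
    · rw [Matrix.single_mul_single_of_ne (h := hij.ne')]; exact zero_mem _
    · refine mem_e_of_comm A (lev_anti (by norm_num) (mul_mem_lev hxl (he.le hy))) fun n hn => ?_
      have h1 : n * (single i j (1 : F) * y) = 0 := by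
        have h2 : n * single i j (1 : F) = 0 := by
          ext a b
          rw [StepTwo.mul_single_entry, Matrix.zero_apply, hocol n (he.le (vee_le hn)), zero_mul, ite_self]
        rw [← mul_assoc, h2, zero_mul]
      have h3 : single i j (1 : F) * y * n = 0 := by
        rw [mul_assoc, ← comm_vee hn hy, ← mul_assoc]
        ext a b
        rw [Matrix.mul_apply, Matrix.zero_apply]
        refine Finset.sum_eq_zero fun c _ => ?_
        rcases lt_or_eq_of_le (hle c) with h | h
        · rw [StepTwo.single_mul_entry, hcol n hn j c h, mul_zero, ite_self, zero_mul]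
        · rw [h, hzrow y (he.le hy), mul_zero]
      rw [h1, h3]
    · have : y * single i j (1 : F) = 0 := by
        ext a b
        rw [StepTwo.mul_single_entry, Matrix.zero_apply, hocol y (he.le hy), zero_mul, ite_self]
      rw [this]; exact zero_mem _
  -- (5)
  have hd : Module.finrank F (vee e) ≤ Module.finrank F (StepTwo.cen ⊥ (vee e) (single i j (1 : F))) + 1 := by
    refine finrank_le_cen (Matrix.entryLinearMap F F j z) fun n hn h0 => ?_
    rw [Matrix.entryLinearMap_apply] at h0
    rw [Submodule.mem_bot]
    have h2 : n * single i j (1 : F) = 0 := by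
      ext a b
      rw [StepTwo.mul_single_entry, Matrix.zero_apply, hocol n (he.le (vee_le hn)), zero_mul, ite_self]
    have h3 : single i j (1 : F) * n = 0 := by
      ext a b
      rw [StepTwo.single_mul_entry, Matrix.zero_apply]
      rcases lt_or_eq_of_le (hle b) with h | h
      · rw [hcol n hn j b h, mul_zero, ite_self]
      · rw [h, h0, mul_zero, ite_self]
    rw [h2, h3, sub_zero]
  -- (6)
  have hkey : ∀ n ∈ vee e, n j z = 0 → ∃ c : F, n = single i z c := by
    intro n hn h0
    set y : Mat := fun a b => if b = j then n a z else 0 with hy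
    have hyj : ∀ a, y a j = n a z := fun a => if_pos rfl
    have hyn : ∀ a b, b ≠ j → y a b = 0 := fun a b h => if_neg h
    have hyl : y ∈ lev m F 1 := by
      intro a b hab
      have hb : b = j := by
        by_contra h
        exact hab (hyn a b h)
      rw [hb, hyj] at hab
      rw [hb]
      by_contra h1
      rcases Nat.lt_or_ge (j : ℕ) a with h2 | h2
      · exact hab (hrow n hn a z (by rw [Fin.lt_def]; exact h2))
      · have : a = j := Fin.ext (by omega)
        rw [this] at hab
        exact hab h0
    have hny : ∀ n' ∈ vee e, n' * y = 0 := by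
      intro n' hn'
      ext a b
      rw [Matrix.mul_apply, Matrix.zero_apply]
      refine Finset.sum_eq_zero fun c _ => ?_
      rcases lt_or_eq_of_le (hle c) with h | h
      · rw [hcol n' hn' a c h, zero_mul]
      · rw [h, hzrow y hyl, mul_zero]
    have hyn' : ∀ n' ∈ vee e, ∀ a b, (y * n') a b = n a z * n' j b := by
      intro n' _ a b
      rw [Matrix.mul_apply, Finset.sum_eq_single j]
      · rw [hyj]
      · intro c _ hc
        rw [hyn a c hc, zero_mul]
      · intro h; exact absurd (Finset.mem_univ _) h
    have hs1 : y * y ∈ e := by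
      have : y * y = 0 := by
        ext a b
        rw [Matrix.mul_apply, Matrix.zero_apply]
        refine Finset.sum_eq_zero fun c _ => ?_
        by_cases hc : c = j
        · rw [hc]
          by_cases hb : b = j
          · rw [hb, hyj j, h0, mul_zero]
          · rw [hyn j b hb, mul_zero]
        · rw [hyn a c hc, zero_mul]
      rw [this]; exact zero_mem _
    have hs2 : ∀ u ∈ e, y * u ∈ e := by
      intro u hu
      refine mem_e_of_comm A (lev_anti (by norm_num) (mul_mem_lev hyl (he.le hu))) fun n' hn' => ?_
      have h1 : y * u * n' = 0 := by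
        rw [mul_assoc, ← comm_vee hn' hu, ← mul_assoc]
        ext a b
        rw [Matrix.mul_apply, Matrix.zero_apply]
        refine Finset.sum_eq_zero fun c _ => ?_
        rcases lt_or_eq_of_le (hle c) with h | h
        · rw [hyn' n' hn', hcol n' hn' j c h, mul_zero, zero_mul]
        · rw [h, hzrow u (he.le hu), mul_zero]
      rw [h1, ← mul_assoc, hny n' hn', zero_mul]
    have hs3 : ∀ u ∈ e, u * y ∈ e := by
      intro u hu
      have : u * y = 0 := by
        ext a b
        rw [Matrix.zero_apply]
        by_cases hb : b = j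
        · have h1 : (u * y) a b = (u * n) a z := by
            rw [Matrix.mul_apply, Matrix.mul_apply, hb]
            exact Finset.sum_congr rfl fun c _ => by rw [hyj]
          rw [h1, ← comm_vee hn hu, Matrix.mul_apply]
          refine Finset.sum_eq_zero fun c _ => ?_
          rcases lt_or_eq_of_le (hle c) with h | h
          · rw [hcol n hn a c h, zero_mul]
          · rw [h, hzrow u (he.le hu), mul_zero]
        · rw [Matrix.mul_apply]
          exact Finset.sum_eq_zero fun c _ => by rw [hyn c b hb, mul_zero]
      rw [this]; exact zero_mem _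
    have hs4 : single i j (1 : F) * y ∈ e := by
      have : single i j (1 : F) * y = 0 := by
        ext a b
        rw [StepTwo.single_mul_entry, Matrix.zero_apply]
        by_cases hb : b = j
        · rw [hb, hyj, h0, mul_zero, ite_self]
        · rw [hyn j b hb, mul_zero, ite_self]
      rw [this]; exact zero_mem _
    have hs5 : y * single i j (1 : F) ∈ e := by
      have : y * single i j (1 : F) = 0 := by
        ext a b
        rw [StepTwo.mul_single_entry, Matrix.zero_apply, hyn a i hij.ne, zero_mul, ite_self]
      rw [this]; exact zero_mem _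
    obtain ⟨c, hc⟩ := exists_sub_smul_mem A hx hd hyl hs1 hs2 hs3 hs4 hs5
    refine ⟨c, ?_⟩
    have h1 := comm_vee hν hc
    have h2 : ν * (y - c • single i j (1 : F)) = 0 := by
      rw [mul_sub, hny ν hν, Matrix.mul_smul]
      have : ν * single i j (1 : F) = 0 := by
        ext a b
        rw [StepTwo.mul_single_entry, Matrix.zero_apply, hocol ν (he.le (vee_le hν)), zero_mul, ite_self]
      rw [this, smul_zero, sub_zero]
    rw [h2] at h1
    ext a b
    rcases lt_or_eq_of_le (hle b) with h | h
    · rw [hcol n hn a b h, Matrix.single_apply, if_neg]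
      rintro ⟨-, h3⟩
      exact h.ne h3.symm
    · have h3 := congrFun (congrFun h1 a) b
      rw [sub_mul, Matrix.sub_apply, Matrix.zero_apply, hyn' ν hν, Matrix.smul_mul, Matrix.smul_apply,
        StepTwo.single_mul_entry, h, hν1, mul_one, mul_one] at h3
      have h4 := sub_eq_zero.1 h3.symm
      rw [h, h4, Matrix.single_apply]
      by_cases hai : a = i
      · rw [if_pos hai, if_pos ⟨hai.symm, rfl⟩, smul_eq_mul, mul_one]
      · rw [if_neg hai, if_neg fun h => hai h.1.symm, smul_zero]
  -- (7)
  have hnu : ∀ n ∈ vee e, ∀ x ∈ lev m F 1, n * x = 0 := by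
    intro n hn x hx
    ext a b
    rw [Matrix.mul_apply, Matrix.zero_apply]
    refine Finset.sum_eq_zero fun c _ => ?_
    rcases lt_or_eq_of_le (hle c) with h | h
    · rw [hcol n hn a c h, zero_mul]
    · rw [h, hzrow x hx, mul_zero]
  have hmem : ∀ x ∈ lev m F 1, x ∈ e ↔ x * ν = 0 := by
    intro x hx
    constructor
    · intro h
      rw [← comm_vee hν h, hnu ν hν x hx]
    · intro h
      refine mem_e_of_comm A hx fun n hn => ?_
      rw [hnu n hn x hx]
      obtain ⟨c, hc⟩ := hkey (n - n j z • ν) (sub_mem hn (Submodule.smul_mem _ _ hν)) (by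
        rw [Matrix.sub_apply, Matrix.smul_apply, hν1, smul_eq_mul, mul_one, sub_self])
      have h1 : n = n j z • ν + single i z c := by rw [← hc]; abel
      have h2 : x * single i z c = 0 := by
        ext a b
        rw [StepTwo.mul_single_entry, Matrix.zero_apply, hocol x hx, zero_mul, ite_self]
      rw [h1, mul_add, Matrix.mul_smul, h, smul_zero, h2, add_zero]
  -- (8)
  by_cases hj1 : (j : ℕ) = 1
  · refine ⟨i, j, by omega, fun x => ?_⟩
    constructor
    · intro h
      refine ⟨he.le h, ?_⟩
      have h1 := congrFun (congrFun ((hmem x (he.le h)).1 h) i) z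
      rw [Matrix.mul_apply, Finset.sum_eq_single j, hν1, mul_one, Matrix.zero_apply] at h1
      · exact h1
      · intro c _ hc
        rcases Nat.lt_or_ge (j : ℕ) c with h2 | h2
        · rw [hrow ν hν c z (by rw [Fin.lt_def]; exact h2), mul_zero]
        · have : c = i := Fin.ext (by
            have : (c : ℕ) ≠ j := fun h => hc (Fin.ext h)
            omega)
          rw [this, hocol x (he.le h), zero_mul]
      · intro h; exact absurd (Finset.mem_univ _) h
    · rintro ⟨hxl', h0⟩
      rw [hmem x hxl']
      ext a b
      rw [Matrix.zero_apply, Matrix.mul_apply]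
      refine Finset.sum_eq_zero fun c _ => ?_
      rcases Nat.lt_or_ge (j : ℕ) c with h2 | h2
      · rw [hrow ν hν c b (by rw [Fin.lt_def]; exact h2), mul_zero]
      · by_cases hc : c = j
        · by_cases ha : a = i
          · rw [ha, hc, h0, zero_mul]
          · have : x a c = 0 := Lev.apply_eq_zero hxl' (by
              have : (a : ℕ) ≠ i := fun h => ha (Fin.ext h)
              omega)
            rw [this, zero_mul]
        · have : c = i := Fin.ext (by
            have : (c : ℕ) ≠ j := fun h => hc (Fin.ext h)
            omega)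
          rw [this, hocol x hxl', zero_mul]
  · exfalso
    have hzm := z.2
    rw [Fin.lt_def] at hjz
    obtain ⟨s, hs⟩ : ∃ s : Fin m, (s : ℕ) = 1 := ⟨⟨1, by omega⟩, rfl⟩
    have his : i < s := by rw [Fin.lt_def]; omega
    have hsj : s < j := by rw [Fin.lt_def]; omega
    set p : Mat := single i s (1 : F) - ν s z • single i j (1 : F) with hp
    have hpl : p ∈ lev m F 1 := sub_mem (single_mem_lev (by omega) 1) (Submodule.smul_mem _ _ hxl)
    have hpe : p ∈ e := by
      rw [hmem p hpl]
      ext a b
      rw [hp, sub_mul, Matrix.smul_mul, Matrix.sub_apply, Matrix.smul_apply, StepTwo.single_mul_entry,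
        StepTwo.single_mul_entry, Matrix.zero_apply]
      rcases lt_or_eq_of_le (hle b) with h | h
      · rw [hcol ν hν s b h, hcol ν hν j b h]
        simp
      · rw [h, hν1]
        by_cases ha : a = i
        · rw [if_pos ha, if_pos ha]; simp
        · rw [if_neg ha, if_neg ha]; simp
    have hroot : ∀ b (hb : i < b), j < b → ∀ c : F, root i b hb c ∈ ⁅ofAlg e he, ofAlg e he⁆ := by
      intro b hb hjb c
      have hsb : s < b := hsj.trans hjb
      have hg : root s b hsb c ∈ ofAlg e he := by
        have hsbn := hsb
        rw [Fin.lt_def] at hsbn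
        rw [mem_ofAlg, N_root, hmem _ (single_mem_lev (by omega) c)]
        ext a d
        rw [StepTwo.single_mul_entry, Matrix.zero_apply, hrow ν hν b d hjb, mul_zero, ite_self]
      have hcomm : mk p hpl * root s b hsb c * (mk p hpl)⁻¹ * (root s b hsb c)⁻¹ = root i b hb c := by
        have hbn := hb
        rw [Fin.lt_def] at hbn
        have hwl : single i b c ∈ lev m F 1 := single_mem_lev (by omega) c
        have := StepTwo.comm_eq hpl (g := root s b hsb c) (w := single i b c) hwl ?_ ?_ ?_
        · rw [this]; rfl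
        · rw [N_root, hp, sub_mul, mul_sub, Matrix.smul_mul, Matrix.mul_smul,
            Matrix.single_mul_single_same, Matrix.single_mul_single_of_ne (h := hsj.ne'),
            Matrix.single_mul_single_of_ne (h := hb.ne'), Matrix.single_mul_single_of_ne (h := hb.ne'), one_mul]
          simp
        · rw [N_root, Matrix.single_mul_single_of_ne (h := hsb.ne')]
        · rw [hp, mul_sub, Matrix.mul_smul, Matrix.single_mul_single_of_ne (h := hb.ne'),
            Matrix.single_mul_single_of_ne (h := hb.ne'), smul_zero, sub_zero]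
      rw [← hcomm]
      exact commutator_mem_commutator (by rw [mem_ofAlg, N_mk]; exact hpe) hg
    -- the commutators with `x_1j` are in `E'`
    set P : Fin m → Fin m → Prop := fun a b => a = i ∧ j < b with hP
    have hId : StepTwo.IsId P := by
      refine ⟨fun a b h => ?_, fun a b c hab h => ?_, fun a b c h hbc => ⟨h.1, h.2.trans hbc⟩⟩
      · rw [h.1]; exact hij.trans h.2
      · rw [h.1, Fin.lt_def, ho] at hab
        exact absurd hab (Nat.not_lt_zero _)
    obtain ⟨g, hg, hgn⟩ := exists_not_mem_commutator D hx
    apply hgn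
    have h1 := root_comm_mem (F := F) hId hij (fun a ha => by
      rw [Fin.lt_def, ho] at ha
      exact absurd ha (Nat.not_lt_zero _)) (fun b hb => ⟨rfl, hb⟩) (u := mk _ hx.lev)
      (by rw [N_mk]; exact single_mem_pat (Or.inr ⟨rfl, rfl⟩) 1) g
    refine mem_of_root (P := P) hId.lt ?_ ?_ h1
    · rintro a b c ⟨rfl, h3⟩ ⟨h2, -⟩
      rw [h2] at h3
      exact absurd hij (not_lt_of_gt h3)
    · rintro a b ⟨rfl, h⟩ c
      exact hroot b _ h c

end Cfsg.Agent.SylowL.StepOne
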