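import Cfsg.Agent.SylowL.StepOne.CaseA
import Cfsg.Agent.SylowL.EssMap
import Cfsg.Agent.SylowL.Dual

/-!
# Step 1: conclusion (modulo case (B))
-/

set_option autoImplicit false

namespace Cfsg.Agent.SylowL.StepOne

open Matrix Subgroup
open Cfsg.Agent.SylowL.Lev Cfsg.Agent.SylowL.UT Cfsg.Agent.SylowL.Pat
open Cfsg.Agent.SylowL.EssDatum Cfsg.Agent.SylowL.EssUT Cfsg.Agent.SylowL.EssTwo

variable {m : ℕ} {F : Type*} [Field F]

local notation "Mat" => Matrix (Fin m) (Fin m) F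

/-- The graph automorphism. -/
def dlt : UT m F ≃* UT m F where
  toFun := Dual.delta
  invFun := Dual.delta
  left_inv := Dual.delta_delta
  right_inv := Dual.delta_delta
  map_mul' := map_mul _

theorem dlt_apply (g : UT m F) : dlt g = Dual.delta g := rfl

theorem dlt_dlt (g : UT m F) : dlt (dlt g) = g := Dual.delta_delta g

theorem root_inv [CharP F 2] {i j : Fin m} (h : i < j) (c : F) : (root i j h c)⁻¹ = root i j h c := by
  rw [inv_eq_iff_mul_eq_one, root_mul_root, CharTwo.add_self_eq_zero, root_zero]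

theorem rev_lt_rev {i j : Fin m} (h : i < j) : Fin.rev j < Fin.rev i := Fin.rev_lt_rev.2 h

theorem dlt_root [CharP F 2] {i j : Fin m} (h : i < j) (c : F) :
    dlt (root i j h c) = root (Fin.rev j) (Fin.rev i) (rev_lt_rev h) c := by
  apply N_injective
  rw [dlt_apply, Dual.N_delta, root_inv, N_root, N_root]
  ext a b
  rw [Dual.flip_apply, Matrix.single_apply, Matrix.single_apply]
  by_cases h1 : i = Fin.rev b ∧ j = Fin.rev a
  · rw [if_pos h1, if_pos]
    rw [h1.1, h1.2, Fin.rev_rev, Fin.rev_rev]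
    exact ⟨rfl, rfl⟩
  · rw [if_neg h1, if_neg]
    rintro ⟨rfl, rfl⟩
    exact h1 ⟨(Fin.rev_rev _).symm, (Fin.rev_rev _).symm⟩

/-- the superdiagonal of the inverse -/
theorem N_inv_apply {i j : Fin m} (h : (i : ℕ) + 1 = j) (g : UT m F) : N g⁻¹ i j = - N g i j := by
  have h1 : N g + N g⁻¹ + N g * N g⁻¹ = 0 := by rw [← N_mul, mul_inv_cancel, N_one]
  have h2 : (N g * N g⁻¹) i j = 0 :=
    Lev.apply_eq_zero (mul_mem_lev (N_mem g) (N_mem g⁻¹)) (by omega)
  have h3 := congrFun (congrFun h1 i) j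
  rw [Matrix.add_apply, Matrix.add_apply, h2, add_zero, Matrix.zero_apply] at h3
  exact (neg_eq_of_add_eq_zero_right h3).symm

section

variable {G : Type*} [Group G] [Finite G] {ι : UT m F →* G} [Finite F] [CharP F 2]

theorem caseA_group {E : Subgroup (UT m F)} (D : Datum ι E)
    (hn : ¬ Triv ι D.Y (Datum.OmZ E ⊥ inferInstance) ⊥) {o z : Fin m} (ho : (o : ℕ) = 0)
    (hz : (z : ℕ) + 1 = m) (hA : ∀ a (h : a < z), root a z h (1 : F) ∈ E) (hne : E ≠ ⊤) :
    ∃ i j : Fin m, (i : ℕ) + 1 = j ∧ ∀ g, g ∈ E ↔ N g i j = 0 := by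
  obtain ⟨e, he, rfl⟩ := exists_alg_bot D hn
  obtain ⟨i, j, hij, h⟩ := caseA D hn ho hz (fun a ha => by
    have := hA a ha
    rwa [mem_ofAlg, N_root] at this) (fun h => hne (by
      rw [eq_top_iff]
      intro g _
      exact h (N_mem g)))
  refine ⟨i, j, hij, fun g => ?_⟩
  rw [mem_ofAlg, h]
  exact ⟨fun h => h.2, fun h => ⟨N_mem g, h⟩⟩

theorem caseA_dual {E : Subgroup (UT m F)} (D : Datum ι E)
    (hn : ¬ Triv ι D.Y (Datum.OmZ E ⊥ inferInstance) ⊥) {o z : Fin m} (ho : (o : ℕ) = 0)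
    (hz : (z : ℕ) + 1 = m) (hA : ∀ b (h : o < b), root o b h (1 : F) ∈ E) (hne : E ≠ ⊤) :
    ∃ i j : Fin m, (i : ℕ) + 1 = j ∧ ∀ g, g ∈ E ↔ N g i j = 0 := by
  obtain ⟨i, j, hij, h⟩ := caseA_group (EssMap.map dlt D) (fun h => hn ((EssMap.triv_OmZ dlt D).1 h)) ho hz
    (fun a ha => by
      rw [EssMap.mem_comap', dlt_root]
      have h1 : Fin.rev z = o := Fin.ext (by rw [Fin.val_rev]; omega)
      have h2 : ∀ (b : Fin m) (hb : b = o) (h : b < Fin.rev a), root b (Fin.rev a) h (1 : F) ∈ E := by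
        rintro b rfl h
        exact hA _ h
      exact h2 _ h1 _) (fun h => hne (by
        rw [eq_top_iff]
        intro g _
        have : dlt g ∈ E.comap (dlt : UT m F ≃* UT m F).toMonoidHom := by rw [h]; exact mem_top _
        rw [EssMap.mem_comap', dlt_dlt] at this
        exact this))
  have hi := i.2
  have hj := j.2
  refine ⟨Fin.rev j, Fin.rev i, by rw [Fin.val_rev, Fin.val_rev]; omega, fun g => ?_⟩
  have h1 : g ∈ E ↔ dlt g ∈ E.comap (dlt : UT m F ≃* UT m F).toMonoidHom := by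
    rw [EssMap.mem_comap', dlt_dlt]
  rw [h1, h, dlt_apply, Dual.N_delta, Dual.flip_apply,
    N_inv_apply (by rw [Fin.val_rev, Fin.val_rev]; omega), neg_eq_zero]

omit [Finite F] in
/-- Existence of the configuration of case (B). -/
theorem exists_caseB {e : Submodule F Mat} {he : IsAlg e} {CY : Subgroup (UT m F)}
    (A : StepTwo.Act e he CY ⊥ (vee e)) {o z : Fin m} (ho : (o : ℕ) = 0) (hz : (z : ℕ) + 1 = m)
    (h1 : ¬ ∀ a, a < z → single a z (1 : F) ∈ e) (h2 : ¬ ∀ b, o < b → single o b (1 : F) ∈ e) :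
    ∃ i j, CaseB e o z i j := by
  classical
  push Not at h1 h2
  obtain ⟨a0, ha0, ha0'⟩ := h1
  obtain ⟨b0, hb0, hb0'⟩ := h2
  obtain ⟨i, hi, hmin⟩ := Finset.exists_min_image
    (Finset.univ.filter fun a : Fin m => a < z ∧ single a z (1 : F) ∉ e) id ⟨a0, by simp [ha0, ha0']⟩
  obtain ⟨j, hj, hmax⟩ := Finset.exists_max_image
    (Finset.univ.filter fun b : Fin m => o < b ∧ single o b (1 : F) ∉ e) id ⟨b0, by simp [hb0, hb0']⟩
  rw [Finset.mem_filter] at hi hj
  obtain ⟨-, hiz, hi⟩ := hi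
  obtain ⟨-, hoj, hj⟩ := hj
  have hoa : ∀ a : Fin m, o ≤ a := fun a => by rw [Fin.le_def]; omega
  have hza : ∀ a : Fin m, a ≤ z := fun a => by rw [Fin.le_def]; have := a.2; omega
  have hoz : o < z := hoj.trans_le (hza j)
  have hc := single_oz_mem A ho hz hoz 1
  have hrow : ∀ b, j < b → single o b (1 : F) ∈ e := by
    intro b hb
    by_contra hcon
    exact absurd hb (not_lt_of_ge (hmax b (by
      rw [Finset.mem_filter]
      exact ⟨Finset.mem_univ _, hoj.trans hb, hcon⟩)))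
  have hcol : ∀ a, a < i → single a z (1 : F) ∈ e := by
    intro a ha
    by_contra hcon
    exact absurd ha (not_lt_of_ge (hmin a (by
      rw [Finset.mem_filter]
      exact ⟨Finset.mem_univ _, ha.trans hiz, hcon⟩)))
  refine ⟨i, j, ho, hz, hoj, ?_, ?_, hiz, hj, hi, hrow, hcol, ?_⟩
  · refine lt_of_le_of_ne (hza j) ?_
    rintro rfl
    exact hj hc
  · refine lt_of_le_of_ne (hoa i) ?_
    rintro rfl
    exact hi hc
  · intro a b hab hai hjb
    by_contra hcon
    obtain ⟨i', j', h3, h4, hM⟩ := exists_min hab hcon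
    by_cases hi' : i' = o
    · refine hM.nmem ?_
      rw [hi']
      exact hrow j' (hjb.trans_le h4)
    · by_cases hj' : j' = z
      · refine hM.nmem ?_
        rw [hj']
        exact hcol i' (h3.trans_lt hai)
      · have hoi' : o < i' := lt_of_le_of_ne (hoa i') (fun h => hi' h.symm)
        have hj'z : j' < z := lt_of_le_of_ne (hza j') hj'
        have h5 := hM.mem o j' (hoa i') le_rfl (Or.inl fun h => hi' h.symm)
        have h6 := hM.mem i' z le_rfl (hza j') (Or.inr fun h => hj' h.symm)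
        exact hM.nmem (single_mem_of_vee A hM.lt (fun n hn c => vee_col he (hM.lt.trans hj'z) h6 hn c)
          (fun n hn c => vee_row he (hoi'.trans hM.lt) h5 hn c) 1)

/-- Step 1, if case (B) does not occur. -/
theorem stepOne_of {E : Subgroup (UT m F)} (D : Datum ι E) (hm : 3 ≤ m)
    (hcB : ∀ (e : Submodule F Mat) (he : IsAlg e) (D : Datum ι (ofAlg e he)) (o z i j : Fin m),
      ¬ Triv ι D.Y (Datum.OmZ (ofAlg e he) ⊥ inferInstance) ⊥ → CaseB e o z i j → False)
    (hn : ¬ Triv ι D.Y (Datum.OmZ E ⊥ inferInstance) ⊥) (hne : E ≠ ⊤) :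
    ∃ i j : Fin m, (i : ℕ) + 1 = j ∧ ∀ g, g ∈ E ↔ N g i j = 0 := by
  obtain ⟨o, ho⟩ : ∃ o : Fin m, (o : ℕ) = 0 := ⟨⟨0, by omega⟩, rfl⟩
  obtain ⟨z, hz⟩ : ∃ z : Fin m, (z : ℕ) + 1 = m := ⟨⟨m - 1, by omega⟩, by
    change m - 1 + 1 = m
    omega⟩
  by_cases h1 : ∀ a (h : a < z), root a z h (1 : F) ∈ E
  · exact caseA_group D hn ho hz h1 hne
  by_cases h2 : ∀ b (h : o < b), root o b h (1 : F) ∈ E
  · exact caseA_dual D hn ho hz h2 hne
  exfalso
  obtain ⟨e, he, rfl⟩ := exists_alg_bot D hn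
  obtain ⟨i, j, hB⟩ := exists_caseB (act_bot D hn) ho hz
    (fun h => h1 fun a ha => by
      rw [mem_ofAlg, N_root]
      exact h a ha)
    (fun h => h2 fun a ha => by
      rw [mem_ofAlg, N_root]
      exact h a ha)
  exact hcB e he D o z i j hn hB

end

end Cfsg.Agent.SylowL.StepOne
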